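import Cfsg.Agent.Mrg.Omega.NO1.HE.Base
import Cfsg.Agent.PLocal.ConjFunctor
import Cfsg.Agent.ZN.ChoiceBase
import Cfsg.Prelude.Def_Local

-- merged: Cfsg.Agent.Mrg.Omega.NO1.AB.Loc
section

section


/-!
# N1, ALPHA / BETA (bb OMEGA 17581, helper645): the local group of a minimal pair

`Mem A E F` : a member `A` with its frame `F = C_V(A) ≤ E` (FLAT, `N = 1`).
`Loc A E F Q L₁ R z` : `L = ⟨A, A^x⟩`, `L₁` the unique maximal subgroup of `L` over `A`, `Q = O₂(L)`, `R` a Sylow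
2-subgroup of `L` over `A`, `z` a vector fixed by `R` and not by `L`; `mu` is (MU): `|A₀||C_E(A₀)| ≤ |E|`.
-/

set_option autoImplicit false
set_option linter.unusedSectionVars false

namespace Cfsg.Agent.Omega.NO1.AB

open Subgroup
open scoped Pointwise

universe u

variable {L : Type u} [Group L] {V : Type u} [AddCommGroup V] [DistribMulAction L V]

/-- The fixed points of a subgroup. -/
def fx (V : Type u) [AddCommGroup V] [DistribMulAction L V] (H : Subgroup L) : AddSubgroup V where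
  carrier := {v | ∀ h ∈ H, h • v = v}
  add_mem' := fun {a b} ha hb h hh => by rw [smul_add, ha h hh, hb h hh]
  zero_mem' := fun h _ => smul_zero h
  neg_mem' := fun {a} ha h hh => by rw [smul_neg, ha h hh]

theorem mem_fx {H : Subgroup L} {v : V} : v ∈ fx V H ↔ ∀ h ∈ H, h • v = v := Iff.rfl

theorem fx_mono {H K : Subgroup L} (h : H ≤ K) : fx V K ≤ fx V H := fun _ hv k hk => hv k (h hk)

/-- A member with its frame. -/
structure Mem (A : Subgroup L) (E F : AddSubgroup V) : Prop where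
  comm : ∀ b ∈ A, ∀ c ∈ A, b * c = c * b
  sq : ∀ b ∈ A, b * b = 1
  FE : F ≤ E
  VB : ∀ b ∈ A, ∀ v : V, b • v + v ∈ E
  EB : ∀ b ∈ A, ∀ e ∈ E, b • e + e ∈ F
  FB : ∀ b ∈ A, ∀ f ∈ F, b • f = f
  CB : ∀ v : V, (∀ b ∈ A, b • v = v) → v ∈ F
  inj : ∀ w, w ∉ E → ∀ b ∈ A, b • w + w ∈ F → b = 1
  surj : ∀ w, w ∉ E → ∀ e ∈ E, ∃ b ∈ A, b • w + w + e ∈ F
  ne : ∃ v, v ∉ E

theorem mem_conj {H : Subgroup L} {g y : L} : y ∈ MulAut.conj g • H ↔ g⁻¹ * y * g ∈ H := HE.mem_conj

theorem conj_mem_conj {H : Subgroup L} {g y : L} (hy : y ∈ H) : g * y * g⁻¹ ∈ MulAut.conj g • H := by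
  rw [mem_conj]
  have : g⁻¹ * (g * y * g⁻¹) * g = y := by group
  rwa [this]

theorem conj_smul_smul (g k : L) (H : Subgroup L) :
    MulAut.conj g • MulAut.conj k • H = MulAut.conj (g * k) • H := by
  rw [map_mul, mul_smul]

theorem conj_le_conj {H K : Subgroup L} (g : L) (h : H ≤ K) : MulAut.conj g • H ≤ MulAut.conj g • K := by
  intro y hy
  rw [mem_conj] at hy ⊢
  exact h hy

theorem conj_le_iff {H K : Subgroup L} (g : L) : MulAut.conj g • H ≤ K ↔ H ≤ MulAut.conj g⁻¹ • K := by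
  constructor
  · intro h y hy
    rw [mem_conj]
    have := h (conj_mem_conj (g := g) hy)
    simpa using this
  · intro h y hy
    rw [mem_conj] at hy
    have := h hy
    rw [mem_conj] at this
    have e : (g⁻¹)⁻¹ * (g⁻¹ * y * g) * g⁻¹ = y := by group
    rwa [e] at this

theorem conj_eq_top {H : Subgroup L} {g : L} (h : MulAut.conj g • H = ⊤) : H = ⊤ := by
  rw [eq_top_iff]
  intro y _
  have : g * y * g⁻¹ ∈ MulAut.conj g • H := by rw [h]; exact mem_top _
  rw [mem_conj] at this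
  have e : g⁻¹ * (g * y * g⁻¹) * g = y := by group
  rwa [e] at this

theorem conj_eq_self_of_le [Finite L] {H : Subgroup L} {g : L} (h : MulAut.conj g • H ≤ H) :
    MulAut.conj g • H = H := by
  apply eq_of_le_of_card_ge h
  apply le_of_eq
  exact (Nat.card_congr (Subgroup.equivSMul (MulAut.conj g) H).toEquiv)

/-- `P ∩ N` is Sylow in the normal subgroup `N`: Frattini -/
theorem frattini_inf [Finite L] (P : Sylow 2 L) (N : Subgroup L) [N.Normal] :
    normalizer (((P : Subgroup L) ⊓ N : Subgroup L) : Set L) ⊔ N = ⊤ := by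
  have : Fact (Nat.Prime 2) := ⟨Nat.prime_two⟩
  have hd : ¬ 2 ∣ (P : Subgroup L).relIndex N := by
    have h1 := relIndex_mul_relIndex ((P : Subgroup L) ⊓ N) N ((P : Subgroup L) ⊔ N) inf_le_right le_sup_right
    have h2 := relIndex_mul_relIndex ((P : Subgroup L) ⊓ N) P ((P : Subgroup L) ⊔ N) inf_le_left le_sup_left
    rw [inf_relIndex_left, ← relIndex_sup_right (H := (P : Subgroup L)) (K := N), ← h1,
      inf_relIndex_right, mul_comm] at h2
    have h3 : (N.relIndex ((P : Subgroup L) ⊔ N)) ≠ 0 := index_ne_zero_of_finite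
    have h4 := Nat.eq_of_mul_eq_mul_right (Nat.pos_of_ne_zero h3) h2
    rw [← h4]
    intro h5
    exact P.not_dvd_index (h5.trans (relIndex_dvd_index_of_le le_sup_left))
  let Q : Sylow 2 N := (P.2.comap_subtype (K := N)).toSylow hd
  have hQ : (Q : Subgroup N) = (P : Subgroup L).subgroupOf N := rfl
  have h1 := Q.normalizer_sup_eq_top
  rw [hQ, subgroupOf_map_subtype] at h1
  exact h1

/-- The local group of a minimal pair (without the vector `z`). -/
structure Loc0 (A : Subgroup L) (E F : AddSubgroup V) (Q L₁ : Subgroup L) (R : Sylow 2 L) : Prop where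
  two : ∀ v : V, v + v = 0
  mem : Mem A E F
  mu : ∀ A₀ ≤ A, Nat.card A₀ * Nat.card ↥(fx V A₀ ⊓ E) ≤ Nat.card E
  Qn : Q.Normal
  Q2 : IsPGroup 2 Q
  core : ∀ N : Subgroup L, N.Normal → IsPGroup 2 N → N ≤ Q
  AR : A ≤ (R : Subgroup L)
  R_ne : (R : Subgroup L) ≠ ⊤
  ne : L₁ ≠ ⊤
  uniq : ∀ H : Subgroup L, A ≤ H → H ≠ ⊤ → H ≤ L₁
  gen : ∃ x : L, A ⊔ MulAut.conj x • A = ⊤

/-- The local group of a minimal pair; `z` is fixed by `R` and not by `L`. -/
structure Loc (A : Subgroup L) (E F : AddSubgroup V) (Q L₁ : Subgroup L) (R : Sylow 2 L) (z : V) : Prop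
    extends Loc0 A E F Q L₁ R where
  zR : ∀ r ∈ R, r • z = z
  zL : ∃ l : L, l • z ≠ z

/-- the stabiliser of a vector -/
theorem stab_le_iff {A : Subgroup L} {E F : AddSubgroup V} {x : L} {v : V} (hm : Mem A E F) :
    MulAut.conj x • A ≤ MulAction.stabilizer L v ↔ x⁻¹ • v ∈ F := by
  constructor
  · intro h1
    apply hm.CB
    intro b hb
    have h2 := h1 (conj_mem_conj (g := x) hb)
    rw [MulAction.mem_stabilizer_iff, mul_smul, mul_smul] at h2
    rw [eq_inv_smul_iff]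
    exact h2
  · intro h1 y hy
    rw [mem_conj] at hy
    have h2 := hm.FB _ hy _ h1
    rw [mul_smul, mul_smul, smul_inv_smul, smul_left_cancel_iff] at h2
    exact h2

namespace Loc0

variable {A : Subgroup L} {E F : AddSubgroup V} {Q L₁ : Subgroup L} {R : Sylow 2 L}
  (h : Loc0 A E F Q L₁ R)
include h

theorem R_le : (R : Subgroup L) ≤ L₁ := h.uniq _ h.AR h.R_ne

theorem A_le : A ≤ L₁ := h.AR.trans h.R_le

theorem Q_le_R [Finite L] : Q ≤ (R : Subgroup L) := by
  have : Fact (Nat.Prime 2) := ⟨Nat.prime_two⟩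
  have := h.Qn
  exact h.Q2.le_sylow_of_normal R

theorem Q_le [Finite L] (g : L) : Q ≤ MulAut.conj g • L₁ := by
  intro y hy
  rw [mem_conj]
  exact h.R_le (h.Q_le_R (by simpa using h.Qn.conj_mem y hy g⁻¹))

/-- an element outside `L₁` generates `L` together with `A` -/
theorem top_of [Finite L] {x : L} (hx : x ∉ L₁) : A ⊔ MulAut.conj x • A = ⊤ := by
  by_contra hne
  have h1 := h.uniq _ le_sup_left hne
  have h2 : MulAut.conj x • A ≤ L₁ := le_sup_right.trans h1
  rw [conj_le_iff] at h2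
  have h3 : MulAut.conj x⁻¹ • L₁ ≤ L₁ := h.uniq _ h2 fun h4 => h.ne (conj_eq_top h4)
  have h4 := conj_eq_self_of_le h3
  -- the normalizer of `L₁` is everything
  have h5 : normalizer (L₁ : Set L) = ⊤ := by
    by_contra h6
    have h7 := h.uniq _ (h.A_le.trans le_normalizer) h6
    apply hx
    have h8 : x⁻¹ ∈ normalizer (L₁ : Set L) := by
      rw [mem_normalizer_iff]
      intro y
      constructor
      · intro hy
        have h9 := conj_mem_conj (g := x⁻¹) hy
        rwa [h4] at h9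
      · intro hy
        have h9 : x⁻¹ * y * x⁻¹⁻¹ ∈ MulAut.conj x⁻¹ • L₁ := by rwa [h4]
        rw [mem_conj] at h9
        have e : (x⁻¹)⁻¹ * (x⁻¹ * y * x⁻¹⁻¹) * x⁻¹ = y := by group
        rwa [e] at h9
    have h9 := h7 h8
    simpa using inv_mem h9
  obtain ⟨y, hy⟩ := h.gen
  apply h.ne
  rw [eq_top_iff, ← hy]
  refine sup_le h.A_le ?_
  intro a ha
  rw [mem_conj] at ha
  have h6 : y ∈ normalizer (L₁ : Set L) := by rw [h5]; exact mem_top y
  rw [mem_normalizer_iff] at h6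
  have h7 := (h6 (y⁻¹ * a * y)).1 (h.A_le ha)
  have e : y * (y⁻¹ * a * y) * y⁻¹ = a := by group
  rwa [e] at h7

/-- two conjugates of `A` at different points generate `L` -/
theorem top_of' [Finite L] {x y : L} (hx : x⁻¹ * y ∉ L₁) : MulAut.conj x • A ⊔ MulAut.conj y • A = ⊤ := by
  have h1 := h.top_of hx
  apply conj_eq_top (g := x⁻¹)
  rw [eq_top_iff, ← h1]
  refine sup_le ?_ ?_
  · intro a ha
    rw [mem_conj]
    have : x⁻¹⁻¹ * a * x⁻¹ ∈ MulAut.conj x • A := by
      have := conj_mem_conj (g := x) ha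
      simpa using this
    exact (le_sup_left (a := MulAut.conj x • A)) this
  · intro a ha
    rw [mem_conj]
    rw [mem_conj] at ha
    have : x⁻¹⁻¹ * a * x⁻¹ ∈ MulAut.conj y • A := by
      rw [mem_conj]
      have e : y⁻¹ * (x⁻¹⁻¹ * a * x⁻¹) * y = (x⁻¹ * y)⁻¹ * a * (x⁻¹ * y) := by group
      rwa [e]
    exact (le_sup_right (b := MulAut.conj y • A)) this

/-- `C_L(v) ≥ A^x` and `v` not fixed by `L` ⟹ `C_L(v) ≤ L₁^x`; general form -/
theorem le_of [Finite L] {x : L} {H : Subgroup L} (hx : MulAut.conj x • A ≤ H) (hH : H ≠ ⊤) :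
    H ≤ MulAut.conj x • L₁ := by
  rw [conj_le_iff] at hx
  have h1 := h.uniq _ hx fun h2 => hH (conj_eq_top h2)
  intro y hy
  rw [mem_conj]
  apply h1
  rw [mem_conj]
  have e : (x⁻¹)⁻¹ * (x⁻¹ * y * x) * x⁻¹ = y := by group
  rwa [e]

theorem fix_all [Finite L] {x y : L} (hx : x⁻¹ * y ∉ L₁) {v : V} (h1 : x⁻¹ • v ∈ F) (h2 : y⁻¹ • v ∈ F) :
    v ∈ fx V (⊤ : Subgroup L) := by
  have h3 : (⊤ : Subgroup L) ≤ MulAction.stabilizer L v := by
    rw [← h.top_of' hx]
    exact sup_le ((stab_le_iff h.mem).2 h1) ((stab_le_iff h.mem).2 h2)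
  exact fun l _ => h3 (mem_top l)

theorem stab_le [Finite L] {x : L} {v : V} (h1 : x⁻¹ • v ∈ F) (h2 : v ∉ fx V (⊤ : Subgroup L)) :
    MulAction.stabilizer L v ≤ MulAut.conj x • L₁ := by
  apply h.le_of ((stab_le_iff h.mem).2 h1)
  intro h3
  apply h2
  intro l _
  have : l ∈ MulAction.stabilizer L v := by rw [h3]; exact mem_top l
  exact this

/-- the 2-part of the core of `L₁` is in `Q` -/
theorem mem_Q_of [Finite L] {a : L} (ha : a ∈ A) (h1 : ∀ g : L, a ∈ MulAut.conj g • L₁) : a ∈ Q := by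
  have : Fact (Nat.Prime 2) := ⟨Nat.prime_two⟩
  set N := L₁.normalCore with hN
  have hNn : N.Normal := L₁.normalCore_normal
  have haN : a ∈ N := by
    intro g
    have := h1 g⁻¹
    rw [mem_conj] at this
    simpa using this
  have h2 := frattini_inf R N
  have h3 : normalizer (((R : Subgroup L) ⊓ N : Subgroup L) : Set L) = ⊤ := by
    by_contra h4
    have hle : (R : Subgroup L) ≤ normalizer (((R : Subgroup L) ⊓ N : Subgroup L) : Set L) := by
      intro r hr
      rw [mem_normalizer_iff]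
      intro y
      constructor
      · rintro ⟨hy1, hy2⟩
        exact ⟨(R : Subgroup L).mul_mem ((R : Subgroup L).mul_mem hr hy1) ((R : Subgroup L).inv_mem hr),
          hNn.conj_mem y hy2 r⟩
      · rintro ⟨hy1, hy2⟩
        refine ⟨?_, ?_⟩
        · have := (R : Subgroup L).mul_mem ((R : Subgroup L).mul_mem ((R : Subgroup L).inv_mem hr) hy1) hr
          have e : r⁻¹ * (r * y * r⁻¹) * r = y := by group
          rwa [e] at this
        · have := hNn.conj_mem _ hy2 r⁻¹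
          have e : r⁻¹ * (r * y * r⁻¹) * r⁻¹⁻¹ = y := by group
          rwa [e] at this
    have h5 := h.uniq _ (h.AR.trans hle) h4
    apply h.ne
    rw [eq_top_iff, ← h2]
    exact sup_le h5 (L₁.normalCore_le)
  have h4 : ((R : Subgroup L) ⊓ N).Normal := normalizer_eq_top_iff.1 h3
  exact h.core _ h4 (R.2.to_le inf_le_left) ⟨h.AR ha, haN⟩

theorem exists_not_mem [Finite L] {a : L} (ha : a ∈ A) (haQ : a ∉ Q) : ∃ g : L, a ∉ MulAut.conj g • L₁ := by
  by_contra hc
  push Not at hc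
  exact haQ (h.mem_Q_of ha hc)

/-- `A` is not in `Q` -/
theorem not_A_le [Finite L] : ¬ A ≤ Q := by
  intro hA
  have := h.Qn
  obtain ⟨x, hx⟩ := h.gen
  apply h.ne
  rw [eq_top_iff, ← hx]
  refine sup_le h.A_le ?_
  intro y hy
  rw [mem_conj] at hy
  have h1 := h.Qn.conj_mem _ (hA hy) x
  have e : x * (x⁻¹ * y * x) * x⁻¹ = y := by group
  rw [e] at h1
  exact h.R_le (h.Q_le_R h1)

end Loc0

end Cfsg.Agent.Omega.NO1.AB

end

section


/-!
# N1: U-minimal pairs (bb OMEGA 18722 (0), helper446)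

`Cls Y V U` : a class `U` of members (closed under conjugation) with (MU); `E_B = Ee V B = {v | [v,B] ≤ C_V(B)}`.
`UM U B B'` : `B ≠ B'` in `U` with `⟨B, B'⟩` minimal.  Then `B`, `B'` normalise each other (type II), or (type I)
`Loc0` holds in `L = ⟨B, B'⟩` with `L₁ = N_L(B)`, and `B'` is conjugate to `B` in `L`.
-/

set_option autoImplicit false
set_option linter.unusedSectionVars false

namespace Cfsg.Agent.Omega.NO1.AB

open Subgroup
open scoped Pointwise

universe u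

variable {Y : Type u} [Group Y] {V : Type u} [AddCommGroup V] [DistribMulAction Y V]

/-- `E_B = {v | [v, B] ≤ C_V(B)}` -/
def Ee (V : Type u) [AddCommGroup V] [DistribMulAction Y V] (B : Subgroup Y) : AddSubgroup V where
  carrier := {v | ∀ b ∈ B, b • v + v ∈ fx V B}
  add_mem' := fun {a c} ha hc b hb => by
    have e : b • (a + c) + (a + c) = (b • a + a) + (b • c + c) := by rw [smul_add]; abel
    change b • (a + c) + (a + c) ∈ fx V B
    rw [e]
    exact (fx V B).add_mem (ha b hb) (hc b hb)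
  zero_mem' := fun b _ => by
    change b • (0 : V) + 0 ∈ fx V B
    rw [smul_zero, add_zero]; exact (fx V B).zero_mem
  neg_mem' := fun {a} ha b hb => by
    have e : b • (-a) + (-a) = -(b • a + a) := by rw [smul_neg]; abel
    change b • (-a) + (-a) ∈ fx V B
    rw [e]
    exact (fx V B).neg_mem (ha b hb)

theorem mem_Ee {B : Subgroup Y} {v : V} : v ∈ Ee V B ↔ ∀ b ∈ B, b • v + v ∈ fx V B := Iff.rfl

/-- A member determines its frame. -/
theorem Mem.F_eq {A : Subgroup Y} {E F : AddSubgroup V} (h : Mem A E F) : F = fx V A :=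
  le_antisymm (fun f hf b hb => h.FB b hb f hf) fun v hv => h.CB v hv

theorem Mem.E_eq {A : Subgroup Y} {E F : AddSubgroup V} (h : Mem A E F) (hA : A ≠ ⊥) : E = Ee V A := by
  apply le_antisymm
  · intro e he b hb
    rw [← h.F_eq]
    exact h.EB b hb e he
  · intro v hv
    by_contra hvE
    apply hA
    rw [eq_bot_iff]
    intro b hb
    rw [h.inj v hvE b hb (by rw [h.F_eq]; exact hv b hb)]
    exact one_mem _

theorem fx_conj (B : Subgroup Y) (g : Y) : fx V (MulAut.conj g • B) = g • fx V B := by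
  ext v
  rw [AddSubgroup.mem_pointwise_smul_iff_inv_smul_mem]
  constructor
  · intro h b hb
    have h1 := h _ (conj_mem_conj (g := g) hb)
    rw [mul_smul, mul_smul] at h1
    rw [eq_inv_smul_iff]
    exact h1
  · intro h b hb
    rw [mem_conj] at hb
    have h1 := h _ hb
    rw [mul_smul, mul_smul, smul_inv_smul, smul_left_cancel_iff] at h1
    exact h1

theorem Ee_conj (B : Subgroup Y) (g : Y) : Ee V (MulAut.conj g • B) = g • Ee V B := by
  ext v
  rw [AddSubgroup.mem_pointwise_smul_iff_inv_smul_mem]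
  constructor
  · intro h b hb
    have h1 := h _ (conj_mem_conj (g := g) hb)
    rw [fx_conj, AddSubgroup.mem_pointwise_smul_iff_inv_smul_mem, smul_add, mul_smul, mul_smul,
      inv_smul_smul] at h1
    exact h1
  · intro h b hb
    rw [mem_conj] at hb
    have h1 := h _ hb
    rw [fx_conj, AddSubgroup.mem_pointwise_smul_iff_inv_smul_mem, smul_add]
    rw [mul_smul, mul_smul, smul_inv_smul] at h1
    exact h1

/-- A class of members. -/
structure Cls (V : Type u) [AddCommGroup V] [DistribMulAction Y V] (U : Set (Subgroup Y)) : Prop where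
  two : ∀ v : V, v + v = 0
  mem : ∀ B ∈ U, Mem B (Ee V B) (fx V B)
  mu : ∀ B ∈ U, ∀ A₀ ≤ B, Nat.card A₀ * Nat.card ↥(fx V A₀ ⊓ Ee V B) ≤ Nat.card (Ee V B)
  conj : ∀ B ∈ U, ∀ y : Y, MulAut.conj y • B ∈ U
  eq : ∀ B ∈ U, ∀ C ∈ U, ∃ y : Y, C = MulAut.conj y • B

/-- A U-minimal pair. -/
structure UM (U : Set (Subgroup Y)) (B B' : Subgroup Y) : Prop where
  mB : B ∈ U
  mB' : B' ∈ U
  ne : B ≠ B'
  min : ∀ C ∈ U, ∀ D ∈ U, C ≠ D → C ⊔ D ≤ B ⊔ B' → C ⊔ D = B ⊔ B'

theorem UM.symm {U : Set (Subgroup Y)} {B B' : Subgroup Y} (h : UM U B B') : UM U B' B where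
  mB := h.mB'
  mB' := h.mB
  ne := h.ne.symm
  min := fun C hC D hD hne hle => by
    rw [sup_comm B' B] at hle ⊢
    exact h.min C hC D hD hne hle

/-- U-minimal pairs exist below any pair. -/
theorem exists_um [Finite Y] {U : Set (Subgroup Y)} {B B' : Subgroup Y} (hB : B ∈ U) (hB' : B' ∈ U)
    (hne : B ≠ B') : ∃ C D : Subgroup Y, UM U C D ∧ C ⊔ D ≤ B ⊔ B' := by
  classical
  have hex : ∃ n : ℕ, ∃ C ∈ U, ∃ D ∈ U, C ≠ D ∧ C ⊔ D ≤ B ⊔ B' ∧ Nat.card (C ⊔ D : Subgroup Y) = n :=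
    ⟨_, B, hB, B', hB', hne, le_rfl, rfl⟩
  obtain ⟨C, hC, D, hD, hCD, hle, hcard⟩ := Nat.find_spec hex
  refine ⟨C, D, ⟨hC, hD, hCD, ?_⟩, hle⟩
  intro C' hC' D' hD' hne' hle'
  apply eq_of_le_of_card_ge hle'
  rw [hcard]
  exact Nat.find_min' hex ⟨C', hC', D', hD', hne', hle'.trans hle, rfl⟩

theorem Mem.isPGroup {A : Subgroup Y} {E F : AddSubgroup V} (h : Mem A E F) : IsPGroup 2 A := by
  rintro ⟨a, ha⟩
  refine ⟨1, Subtype.ext ?_⟩
  rw [pow_one]
  change a ^ 2 = 1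
  rw [pow_two, h.sq a ha]

theorem subgroupOf_conj {K : Subgroup Y} (x : K) (C : Subgroup Y) :
    (MulAut.conj x • C.subgroupOf K : Subgroup K) = (MulAut.conj (x : Y) • C).subgroupOf K := by
  ext y
  rw [mem_conj, mem_subgroupOf, mem_subgroupOf, mem_conj]
  rfl

namespace UM

variable {U : Set (Subgroup Y)} {B B' : Subgroup Y} (h : UM U B B') (hc : Cls V U)

include h hc

/-- `B ≤ H < L` ⟹ `H ≤ N(B)` -/
theorem le_norm {H : Subgroup Y} (hBH : B ≤ H) (hHL : H < B ⊔ B') : H ≤ normalizer (B : Set Y) := by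
  have key : ∀ x ∈ H, MulAut.conj x • B = B := by
    intro x hx
    by_contra hne
    have h1 : B ⊔ MulAut.conj x • B ≤ H := by
      refine sup_le hBH ?_
      intro y hy
      rw [mem_conj] at hy
      have h2 := mul_mem (mul_mem hx (hBH hy)) (inv_mem hx)
      have e : x * (x⁻¹ * y * x) * x⁻¹ = y := by group
      rwa [e] at h2
    have h2 := h.min B h.mB _ (hc.conj B h.mB x) (Ne.symm hne) (h1.trans hHL.le)
    rw [h2] at h1
    exact absurd h1 (not_le_of_gt hHL)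
  intro x hx
  rw [mem_normalizer_iff]
  intro y
  have h1 := key x hx
  constructor
  · intro hy
    have := conj_mem_conj (g := x) hy
    rwa [h1] at this
  · intro hy
    have h2 : x * y * x⁻¹ ∈ MulAut.conj x • B := by rwa [h1]
    rw [mem_conj] at h2
    have e : x⁻¹ * (x * y * x⁻¹) * x = y := by group
    rwa [e] at h2

/-- if `B'` normalises `B` then they normalise each other -/
theorem norm_symm [Finite Y] (h1 : B' ≤ normalizer (B : Set Y)) : B ≤ normalizer (B' : Set Y) := by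
  have : Fact (Nat.Prime 2) := ⟨Nat.prime_two⟩
  set K := (B ⊔ B' : Subgroup Y) with hK
  have h2 : IsPGroup 2 K := by
    rw [hK]
    exact (hc.mem B h.mB).isPGroup.to_sup_of_normal_left' (hc.mem B' h.mB').isPGroup h1
  by_cases hBK : B' = K
  · rw [hBK]
    exact le_sup_left.trans le_normalizer
  -- the normalizer of `B'` in `K` is larger than `B'`
  have h4 : B' < K := lt_of_le_of_ne le_sup_right hBK
  have h3 : B' < normalizer (B' : Set Y) ⊓ K := by
    have h5 : (B'.subgroupOf K) < normalizer ((B'.subgroupOf K : Subgroup K) : Set K) := by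
      have : Group.IsNilpotent K := h2.isNilpotent
      apply Group.normalizerCondition_of_isNilpotent
      rw [lt_top_iff_ne_top]
      intro h6
      rw [subgroupOf_eq_top] at h6
      exact absurd h6 (not_le_of_gt h4)
    obtain ⟨⟨x, hxK⟩, hx1, hx2⟩ := Set.exists_of_ssubset h5
    refine lt_of_le_of_ne (le_inf le_normalizer h4.le) ?_
    intro h6
    apply hx2
    have h7 : x ∈ normalizer (B' : Set Y) := by
      rw [mem_normalizer_iff]
      intro y
      rw [SetLike.mem_coe, mem_normalizer_iff] at hx1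
      constructor
      · intro hy
        have := (hx1 ⟨y, h4.le hy⟩).1 (by rw [mem_subgroupOf]; exact hy)
        exact this
      · intro hy
        have hyK : y ∈ K := by
          have h8 := mul_mem (mul_mem (inv_mem hxK) (h4.le hy)) hxK
          have e : x⁻¹ * (x * y * x⁻¹) * x = y := by group
          rwa [e] at h8
        exact (hx1 ⟨y, hyK⟩).2 hy
    have h8 : x ∈ normalizer (B' : Set Y) ⊓ K := ⟨h7, hxK⟩
    rw [← h6] at h8
    exact h8
  by_cases h5 : normalizer (B' : Set Y) ⊓ K = K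
  · have h6 : K ≤ normalizer (B' : Set Y) := by rw [← h5]; exact inf_le_left
    exact le_sup_left.trans h6
  · exfalso
    -- `K` is a 2-group: a maximal subgroup over `B'` is normal
    obtain ⟨M, hM1, hM2⟩ : ∃ M : Subgroup K, IsCoatom M ∧ (normalizer (B' : Set Y)).subgroupOf K ≤ M := by
      rcases eq_top_or_exists_le_coatom ((normalizer (B' : Set Y)).subgroupOf K) with h6 | h6
      · exfalso
        apply h5
        rw [inf_eq_right]
        rwa [subgroupOf_eq_top] at h6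
      · obtain ⟨M, hM1, hM2⟩ := h6
        exact ⟨M, hM1, hM2⟩
    have hMn : M.Normal := by
      have : Group.IsNilpotent K := h2.isNilpotent
      exact NormalizerCondition.normal_of_coatom M Group.normalizerCondition_of_isNilpotent hM1
    have hB'M : B' ≤ M.map K.subtype := by
      intro b hb
      exact ⟨⟨b, h4.le hb⟩, hM2 (le_normalizer hb), rfl⟩
    -- all `K`-conjugates of `B'` are in `M`, hence equal
    have hMlt : M.map K.subtype < K := by
      refine lt_of_le_of_ne (map_subtype_le _) ?_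
      intro h6
      apply hM1.1
      rw [eq_top_iff]
      intro x _
      have h7 : (x : Y) ∈ M.map K.subtype := by rw [h6]; exact x.2
      obtain ⟨m, hm, hmx⟩ := h7
      have : m = x := Subtype.ext hmx
      rwa [← this]
    apply h5
    apply le_antisymm inf_le_right
    refine le_inf ?_ le_rfl
    intro x hx
    have key : MulAut.conj x • B' = B' := by
      by_contra hne
      have h6 : B' ⊔ MulAut.conj x • B' ≤ M.map K.subtype := by
        refine sup_le hB'M ?_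
        intro y hy
        rw [mem_conj] at hy
        obtain ⟨m, hm, hmy⟩ := hB'M hy
        refine ⟨⟨x, hx⟩ * m * ⟨x, hx⟩⁻¹, hMn.conj_mem m hm _, ?_⟩
        change x * (m : Y) * x⁻¹ = y
        have h7 : (m : Y) = x⁻¹ * y * x := hmy
        rw [h7]; group
      have h7 := h.min B' h.mB' _ (hc.conj B' h.mB' x) (Ne.symm hne) (h6.trans hMlt.le)
      rw [h7] at h6
      exact absurd h6 (not_le_of_gt hMlt)
    rw [mem_normalizer_iff]
    intro y
    constructor
    · intro hy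
      have := conj_mem_conj (g := x) hy
      rwa [key] at this
    · intro hy
      have h2 : x * y * x⁻¹ ∈ MulAut.conj x • B' := by rwa [key]
      rw [mem_conj] at h2
      have e : x⁻¹ * (x * y * x⁻¹) * x = y := by group
      rwa [e] at h2

/-- **Type I**: `B`, `B'` do not normalise each other. -/
theorem loc0 [Finite Y] [Finite V] (hn : ¬ B' ≤ normalizer (B : Set Y)) :
    ∃ (Q : Subgroup (B ⊔ B' : Subgroup Y)) (R : Sylow 2 (B ⊔ B' : Subgroup Y)),
      Loc0 (B.subgroupOf (B ⊔ B')) (Ee V B) (fx V B) Q ((normalizer (B : Set Y)).subgroupOf (B ⊔ B')) R := by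
  have : Fact (Nat.Prime 2) := ⟨Nat.prime_two⟩
  set K := (B ⊔ B' : Subgroup Y) with hK
  have hBK : B ≤ K := le_sup_left
  have hm := hc.mem B h.mB
  have hn' : ¬ B ≤ normalizer (B' : Set Y) := fun h1 => hn (h.symm.norm_symm hc h1)
  have hne : (normalizer (B : Set Y)).subgroupOf K ≠ ⊤ := by
    intro h1
    rw [subgroupOf_eq_top] at h1
    exact hn (le_sup_right.trans h1)
  have huniq : ∀ H : Subgroup K, B.subgroupOf K ≤ H → H ≠ ⊤ → H ≤ (normalizer (B : Set Y)).subgroupOf K := by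
    intro H hH hH1
    have h1 : H.map K.subtype < B ⊔ B' := by
      refine lt_of_le_of_ne (map_subtype_le _) ?_
      intro h6
      apply hH1
      rw [eq_top_iff]
      intro x _
      have h7 : (x : Y) ∈ H.map K.subtype := by rw [h6]; exact x.2
      obtain ⟨m, hm, hmx⟩ := h7
      have : m = x := Subtype.ext hmx
      rwa [← this]
    have h2 := h.le_norm hc (H := H.map K.subtype) (fun b hb => ⟨⟨b, hBK hb⟩, hH hb, rfl⟩) h1
    intro x hx
    rw [mem_subgroupOf]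
    exact h2 ⟨x, hx, rfl⟩
  have hgen : ∃ x : K, (B.subgroupOf K) ⊔ MulAut.conj x • (B.subgroupOf K) = ⊤ := by
    obtain ⟨x, hx⟩ : ∃ x : K, x ∉ (normalizer (B : Set Y)).subgroupOf K := by
      by_contra hcon
      push Not at hcon
      exact hne (eq_top_iff.2 fun x _ => hcon x)
    refine ⟨x, ?_⟩
    have h1 : MulAut.conj (x : Y) • B ≠ B := by
      intro h2
      apply hx
      rw [mem_subgroupOf, mem_normalizer_iff]
      intro y
      constructor
      · intro hy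
        have := conj_mem_conj (g := (x : Y)) hy
        rwa [h2] at this
      · intro hy
        have h3 : (x : Y) * y * (x : Y)⁻¹ ∈ MulAut.conj (x : Y) • B := by rwa [h2]
        rw [mem_conj] at h3
        have e : (x : Y)⁻¹ * ((x : Y) * y * (x : Y)⁻¹) * x = y := by group
        rwa [e] at h3
    have h2 : MulAut.conj (x : Y) • B ≤ K := by
      intro y hy
      rw [mem_conj] at hy
      have h3 := mul_mem (mul_mem x.2 (hBK hy)) (inv_mem x.2)
      have e : (x : Y) * ((x : Y)⁻¹ * y * x) * (x : Y)⁻¹ = y := by group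
      rwa [e] at h3
    have h3 := h.min B h.mB _ (hc.conj B h.mB x) h1.symm (sup_le hBK h2)
    rw [subgroupOf_conj, ← subgroupOf_sup hBK h2, h3, subgroupOf_self]
  -- a Sylow subgroup over `B`
  have hB2 : IsPGroup 2 (B.subgroupOf K) := hm.isPGroup.comap_of_injective K.subtype Subtype.coe_injective
  obtain ⟨R, hR⟩ := hB2.exists_le_sylow
  have hRne : (R : Subgroup K) ≠ ⊤ := by
    intro h1
    have h2 : IsPGroup 2 (⊤ : Subgroup K) := by rw [← h1]; exact R.2
    have h3 : IsPGroup 2 K := by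
      intro x
      obtain ⟨k, hk⟩ := h2 ⟨x, mem_top x⟩
      exact ⟨k, congrArg Subtype.val hk⟩
    have : Group.IsNilpotent K := h3.isNilpotent
    rcases eq_top_or_exists_le_coatom ((normalizer (B : Set Y)).subgroupOf K) with h6 | ⟨M, hM1, hM2⟩
    · exact hne h6
    · have hMn := NormalizerCondition.normal_of_coatom M Group.normalizerCondition_of_isNilpotent hM1
      have h7 : B.subgroupOf K ≤ M := by
        intro b hb
        exact hM2 (le_normalizer hb)
      obtain ⟨x, hx⟩ := hgen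
      apply hM1.1
      rw [eq_top_iff, ← hx]
      refine sup_le h7 ?_
      intro y hy
      rw [mem_conj] at hy
      have h8 := hMn.conj_mem _ (h7 hy) x
      have e : x * (x⁻¹ * y * x) * x⁻¹ = y := by group
      rwa [e] at h8
  -- `O₂`
  obtain ⟨Q, hQn, hQ2, hQ⟩ : ∃ Q : Subgroup K, Q.Normal ∧ IsPGroup 2 Q ∧
      ∀ N : Subgroup K, N.Normal → IsPGroup 2 N → N ≤ Q := by
    refine ⟨(R : Subgroup K).normalCore, (R : Subgroup K).normalCore_normal,
      R.2.to_le (R : Subgroup K).normalCore_le, ?_⟩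
    intro N hN hN2
    exact normal_le_normalCore.2 (hN2.le_sylow_of_normal R)
  refine ⟨Q, R, ?_⟩
  exact
    { two := hc.two
      mem :=
        { comm := fun b hb c hc' => Subtype.ext (hm.comm b hb c hc')
          sq := fun b hb => Subtype.ext (hm.sq b hb)
          FE := hm.FE
          VB := fun b hb v => hm.VB b hb v
          EB := fun b hb e he => hm.EB b hb e he
          FB := fun b hb f hf => hm.FB b hb f hf
          CB := fun v hv => hm.CB v fun b hb => hv ⟨b, hBK hb⟩ hb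
          inj := fun w hw b hb hbw => Subtype.ext (hm.inj w hw b hb hbw)
          surj := fun w hw e he => by
            obtain ⟨b, hb, h1⟩ := hm.surj w hw e he
            exact ⟨⟨b, hBK hb⟩, hb, h1⟩
          ne := hm.ne }
      mu := by
        intro A₀ hA₀
        have h1 := hc.mu B h.mB (A₀.map K.subtype) (by
          rintro _ ⟨a, ha, rfl⟩
          exact hA₀ ha)
        have h2 : Nat.card ↥(A₀.map K.subtype) = Nat.card A₀ :=
          Nat.card_congr (A₀.equivMapOfInjective _ K.subtype_injective).symm.toEquiv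
        have h3 : fx V (A₀.map K.subtype) = fx V A₀ := by
          ext v
          constructor
          · intro hv a ha
            exact hv a ⟨a, ha, rfl⟩
          · rintro hv _ ⟨a, ha, rfl⟩
            exact hv a ha
        rw [h2, h3] at h1
        exact h1
      Qn := hQn
      Q2 := hQ2
      core := hQ
      AR := hR
      R_ne := hRne
      ne := hne
      uniq := huniq
      gen := hgen }

/-- In type I, `B'` is conjugate to `B` in `L`. -/
theorem conj_of_typeI [Finite Y] [Finite V] (hn : ¬ B' ≤ normalizer (B : Set Y)) :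
    ∃ x ∈ B ⊔ B', B' = MulAut.conj x • B := by
  obtain ⟨Q, R, hL⟩ := h.loc0 (V := V) hc hn
  have hm' := hc.mem B' h.mB'
  have hB2 : IsPGroup 2 (B'.subgroupOf (B ⊔ B')) := hm'.isPGroup.comap_of_injective (B ⊔ B').subtype Subtype.coe_injective
  obtain ⟨P, hP⟩ := hB2.exists_le_sylow
  obtain ⟨k, hk⟩ := MulAction.exists_smul_eq (B ⊔ B' : Subgroup Y) P R
  -- `B'^k ≤ R ≤ N(B)`
  have h1 : MulAut.conj (k : Y) • B' ≤ normalizer (B : Set Y) ⊓ (B ⊔ B') := by
    intro y hy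
    rw [mem_conj] at hy
    have hyK : (k : Y)⁻¹ * y * k ∈ B ⊔ B' := le_sup_right (a := B) hy
    have hy' : y ∈ B ⊔ B' := by
      have h3 := mul_mem (mul_mem k.2 hyK) (inv_mem k.2)
      have e : (k : Y) * ((k : Y)⁻¹ * y * k) * (k : Y)⁻¹ = y := by group
      rwa [e] at h3
    refine ⟨?_, hy'⟩
    have h2 : (⟨y, hy'⟩ : (B ⊔ B' : Subgroup Y)) ∈ (R : Subgroup (B ⊔ B' : Subgroup Y)) := by
      rw [← hk]
      change (⟨y, hy'⟩ : (B ⊔ B' : Subgroup Y)) ∈ k • P
      rw [HE.mem_smul_sylow]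
      exact hP (show (k : Y)⁻¹ * y * k ∈ B' from hy)
    exact hL.R_le h2
  have h2 : MulAut.conj (k : Y) • B' = B := by
    by_contra hne
    have h3 : MulAut.conj (k : Y) • B' ⊔ B ≤ normalizer (B : Set Y) ⊓ (B ⊔ B') :=
      sup_le h1 (le_inf le_normalizer le_sup_left)
    have h4 := h.min _ (hc.conj B' h.mB' k) B h.mB hne (h3.trans inf_le_right)
    rw [h4] at h3
    exact hn ((le_sup_right.trans h3).trans inf_le_left)
  refine ⟨(k : Y)⁻¹, inv_mem k.2, ?_⟩
  have e : B' = MulAut.conj ((k : Y)⁻¹) • (MulAut.conj (k : Y) • B') := by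
    rw [← mul_smul, ← map_mul, inv_mul_cancel, map_one, one_smul]
  exact e.trans (congrArg _ h2)

end UM

end Cfsg.Agent.Omega.NO1.AB

end

section


/-!
# Clifford over a 2-group (bb OMEGA 20114 (q5), helper620)

`O` normal in `L`, `L = O T`, `T` a 2-group, `V` elementary abelian.
* `eq_of_eqv` : an irreducible `L`-module `M` is multiplicity-free for `O`: two isomorphic simple `O`-submodules of `M` are
  equal.
* `index_le` : `N` a minimal `O`-invariant 2-subgroup, quadratic with `[V, N] ≤ M`, `[M, N] = 0`, `[V, O] ≤ M`, `M`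
  irreducible for `L`: then `|V : C_V(N)| ≤ |N|` (an offender).
-/

set_option autoImplicit false

namespace Cfsg.Agent.Omega.NO1.TH.MF

open scoped Pointwise

universe u

variable {L V : Type u} [Group L] [AddCommGroup V] [DistribMulAction L V]

/-- `A` is invariant under `O` -/
def Inv (O : Subgroup L) (A : AddSubgroup V) : Prop := ∀ o ∈ O, ∀ a ∈ A, o • a ∈ A

/-- `A` is a simple `O`-module -/
structure Simp (O : Subgroup L) (A : AddSubgroup V) : Prop where
  inv : Inv O A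
  ne : A ≠ ⊥
  min : ∀ B ≤ A, Inv O B → B = ⊥ ∨ B = A

/-- the `O`-isomorphisms `A → B` -/
def Eqv (O : Subgroup L) (A B : AddSubgroup V) : Type _ :=
  {e : A ≃+ B // ∀ o ∈ O, ∀ a a' : A, (a' : V) = o • (a : V) → (e a' : V) = o • (e a : V)}

variable {O : Subgroup L} {A B C : AddSubgroup V}

theorem Inv.sup (hA : Inv O A) (hB : Inv O B) : Inv O (A ⊔ B) := by
  intro o ho x hx
  obtain ⟨a, ha, b, hb, rfl⟩ := AddSubgroup.mem_sup.1 hx
  rw [smul_add]
  exact AddSubgroup.add_mem_sup (hA o ho a ha) (hB o ho b hb)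

theorem Inv.inf (hA : Inv O A) (hB : Inv O B) : Inv O (A ⊓ B) := fun o ho x hx =>
  ⟨hA o ho x hx.1, hB o ho x hx.2⟩

theorem Inv.bot : Inv O (⊥ : AddSubgroup V) := by
  intro o _ x hx
  rw [AddSubgroup.mem_bot] at hx ⊢
  rw [hx, smul_zero]

theorem Inv.fsup (Ω : Finset (AddSubgroup V)) (h : ∀ A ∈ Ω, Inv O A) : Inv O (Ω.sup id) := by
  classical
  induction Ω using Finset.induction_on with
  | empty => rw [Finset.sup_empty]; exact Inv.bot
  | insert A Ω _ ih =>
    rw [Finset.sup_insert, id]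
    exact (h A (Finset.mem_insert_self _ _)).sup (ih fun B hB => h B (Finset.mem_insert_of_mem hB))

/-- the identity -/
def Eqv.refl (O : Subgroup L) (A : AddSubgroup V) : Eqv O A A := ⟨AddEquiv.refl A, fun _ _ _ _ h => h⟩

/-- composition -/
def Eqv.trans (e : Eqv O A B) (f : Eqv O B C) : Eqv O A C :=
  ⟨e.1.trans f.1, fun o ho a a' h => f.2 o ho _ _ (e.2 o ho a a' h)⟩

/-- the inverse -/
def Eqv.symm (hA : Inv O A) (e : Eqv O A B) : Eqv O B A :=
  ⟨e.1.symm, fun o ho b b' h => by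
    have h1 := e.2 o ho (e.1.symm b) ⟨o • (e.1.symm b : V), hA o ho _ (e.1.symm b).2⟩ rfl
    rw [AddEquiv.apply_symm_apply, ← h] at h1
    have h2 : e.1 ⟨o • (e.1.symm b : V), hA o ho _ (e.1.symm b).2⟩ = b' := Subtype.ext h1
    rw [← h2, AddEquiv.symm_apply_apply]⟩

/-- the translation `A → t • A` -/
def sm (t : L) (A : AddSubgroup V) : A ≃+ (t • A : AddSubgroup V) where
  toFun a := ⟨t • (a : V), AddSubgroup.smul_mem_pointwise_smul _ _ _ a.2⟩
  invFun b := ⟨t⁻¹ • (b : V), AddSubgroup.mem_pointwise_smul_iff_inv_smul_mem.1 b.2⟩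
  left_inv a := Subtype.ext (inv_smul_smul t (a : V))
  right_inv b := Subtype.ext (smul_inv_smul t (b : V))
  map_add' a b := Subtype.ext (smul_add t (a : V) b)

theorem conj_mem' [hO : O.Normal] (t : L) {o : L} (ho : o ∈ O) : t⁻¹ * o * t ∈ O := by
  have := hO.conj_mem o ho t⁻¹
  rwa [inv_inv] at this

theorem Inv.smul [O.Normal] (t : L) (h : Inv O A) : Inv O (t • A) := by
  intro o ho a ha
  rw [AddSubgroup.mem_pointwise_smul_iff_inv_smul_mem] at ha ⊢
  have h1 := h _ (conj_mem' t ho) _ ha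
  rwa [← mul_smul, mul_inv_cancel_right, mul_smul] at h1

/-- the translate of an isomorphism -/
def Eqv.smul [O.Normal] (t : L) (e : Eqv O A B) : Eqv O (t • A) (t • B) :=
  ⟨(sm t A).symm.trans (e.1.trans (sm t B)), fun o ho a a' h => by
    have h1 := e.2 _ (conj_mem' t ho) ((sm t A).symm a) ((sm t A).symm a') (by
      change t⁻¹ • (a' : V) = (t⁻¹ * o * t) • t⁻¹ • (a : V)
      rw [← mul_smul, mul_inv_cancel_right, mul_smul, h])
    change t • (e.1 ((sm t A).symm a') : V) = o • t • (e.1 ((sm t A).symm a) : V)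
    rw [h1, ← mul_smul, ← mul_smul]
    congr 1
    group⟩

theorem smul_eq_bot {t : L} (h : t • A = ⊥) : A = ⊥ := by
  rw [eq_bot_iff] at h ⊢
  intro a ha
  have h1 := h (AddSubgroup.smul_mem_pointwise_smul a t A ha)
  rw [AddSubgroup.mem_bot] at h1 ⊢
  exact (smul_eq_zero_iff_eq t).1 h1

theorem Simp.smul [O.Normal] (t : L) (h : Simp O A) : Simp O (t • A) where
  inv := h.inv.smul t
  ne := fun h1 => h.ne (smul_eq_bot h1)
  min := fun B hB hi => by
    have h1 : t⁻¹ • B ≤ A := by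
      rw [AddSubgroup.pointwise_smul_le_iff, inv_inv]; exact hB
    rcases h.min _ h1 (hi.smul t⁻¹) with h2 | h2
    · exact Or.inl (smul_eq_bot h2)
    · right
      rw [← h2, smul_inv_smul]

theorem Simp.of_eqv (hA : Simp O A) (e : Eqv O A B) : Simp O B where
  inv := fun o ho b hb => by
    have h1 := e.2 o ho (e.1.symm ⟨b, hb⟩) ⟨o • (e.1.symm ⟨b, hb⟩ : V), hA.inv o ho _ (e.1.symm ⟨b, hb⟩).2⟩ rfl
    rw [AddEquiv.apply_symm_apply] at h1
    change _ = o • b at h1
    rw [← h1]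
    exact SetLike.coe_mem _
  ne := fun h1 => hA.ne (by
    rw [eq_bot_iff]
    intro a ha
    have h2 : (e.1 ⟨a, ha⟩ : V) ∈ (⊥ : AddSubgroup V) := h1 ▸ (e.1 ⟨a, ha⟩).2
    rw [AddSubgroup.mem_bot] at h2
    have h3 : e.1 ⟨a, ha⟩ = 0 := Subtype.ext h2
    rw [EmbeddingLike.map_eq_zero_iff] at h3
    rw [AddSubgroup.mem_bot]
    exact congrArg Subtype.val h3)
  min := fun C hC hi => by
    let D : AddSubgroup V := (C.comap (B.subtype.comp e.1.toAddMonoidHom)).map A.subtype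
    have hD : ∀ a : A, (a : V) ∈ D ↔ (e.1 a : V) ∈ C := by
      intro a
      constructor
      · rintro ⟨a', h1, h2⟩
        have : a' = a := Subtype.ext h2
        rw [← this]
        exact h1
      · intro h1
        exact ⟨a, h1, rfl⟩
    have hDA : D ≤ A := by
      rintro _ ⟨a, _, rfl⟩
      exact a.2
    have hDi : Inv O D := by
      intro o ho d hd
      have h1 := hDA hd
      have h2 := (hD ⟨d, h1⟩).1 hd
      refine (hD ⟨o • d, hA.inv o ho d h1⟩).2 ?_
      rw [e.2 o ho ⟨d, h1⟩ _ rfl]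
      exact hi o ho _ h2
    rcases hA.min D hDA hDi with h1 | h1
    · left
      rw [eq_bot_iff]
      intro c hc
      have h2 : ((e.1.symm ⟨c, hC hc⟩ : A) : V) ∈ D := by
        rw [hD, AddEquiv.apply_symm_apply]; exact hc
      rw [h1, AddSubgroup.mem_bot] at h2
      have h3 : e.1.symm ⟨c, hC hc⟩ = 0 := Subtype.ext h2
      rw [EmbeddingLike.map_eq_zero_iff] at h3
      rw [AddSubgroup.mem_bot]
      exact congrArg Subtype.val h3
    · right
      apply le_antisymm hC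
      intro b hb
      have h2 : ((e.1.symm ⟨b, hb⟩ : A) : V) ∈ D := by
        rw [h1]; exact SetLike.coe_mem _
      rw [hD, AddEquiv.apply_symm_apply] at h2
      exact h2

/-- an equivariant map from a simple module -/
theorem exists_eqv (hA : Simp O A) (f : A →+ V)
    (hf : ∀ o ∈ O, ∀ a a' : A, (a' : V) = o • (a : V) → f a' = o • f a) (h0 : f ≠ 0) :
    ∃ e : Eqv O A f.range, ∀ a, (e.1 a : V) = f a := by
  have hinj : Function.Injective f := by
    rw [← AddMonoidHom.ker_eq_bot_iff]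
    have hK : f.ker.map A.subtype ≤ A := by
      rintro _ ⟨a, _, rfl⟩
      exact a.2
    rcases hA.min (f.ker.map A.subtype) hK (by
      rintro o ho _ ⟨a, ha, rfl⟩
      refine ⟨⟨o • (a : V), hA.inv o ho _ a.2⟩, ?_, rfl⟩
      change f _ = 0
      rw [hf o ho a _ rfl, show f a = 0 from ha, smul_zero]) with h1 | h1
    · rw [eq_bot_iff]
      intro a ha
      have h2 : (a : V) ∈ f.ker.map A.subtype := ⟨a, ha, rfl⟩
      rw [h1, AddSubgroup.mem_bot] at h2
      rw [AddSubgroup.mem_bot]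
      exact Subtype.ext h2
    · exfalso
      apply h0
      ext a
      have h2 : (a : V) ∈ f.ker.map A.subtype := by rw [h1]; exact a.2
      obtain ⟨a', ha', h3⟩ := h2
      have : a' = a := Subtype.ext h3
      rw [← this]
      exact ha'
  refine ⟨⟨AddMonoidHom.ofInjective hinj, fun o ho a a' h => ?_⟩, fun a => rfl⟩
  exact hf o ho a a' h

/-- a simple submodule of a sum of pairwise non-isomorphic simple submodules is one of them -/
theorem mem_of_le_sup (Ω : Finset (AddSubgroup V)) (hS : ∀ A ∈ Ω, Simp O A)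
    (hn : ∀ A ∈ Ω, ∀ B ∈ Ω, Nonempty (Eqv O A B) → A = B) :
    ∀ X : AddSubgroup V, Simp O X → X ≤ Ω.sup id → X ∈ Ω := by
  classical
  induction Ω using Finset.induction_on with
  | empty =>
    intro X hX h1
    rw [Finset.sup_empty] at h1
    exact absurd (le_bot_iff.1 h1) hX.ne
  | insert A Ω _ ih =>
    intro X hX hXs
    have hSA := hS A (Finset.mem_insert_self _ _)
    have hS' : ∀ B ∈ Ω, Simp O B := fun B hB => hS B (Finset.mem_insert_of_mem hB)
    have ih' := ih hS' (fun B hB C hC => hn B (Finset.mem_insert_of_mem hB) C (Finset.mem_insert_of_mem hC))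
    rw [Finset.sup_insert, id] at hXs
    set B := Ω.sup id with hB
    have hBi : Inv O B := Inv.fsup Ω fun C hC => (hS' C hC).inv
    by_cases hXB : X ⊓ B = ⊥
    · have hAB : A ⊓ B = ⊥ := by
        rcases hSA.min (A ⊓ B) inf_le_left (hSA.inv.inf hBi) with h1 | h1
        · exact h1
        · exfalso
          have h2 : A ≤ B := inf_eq_left.1 h1
          have h3 : X ≤ B := hXs.trans (sup_le h2 le_rfl)
          rw [inf_eq_left.2 h3] at hXB
          exact hX.ne hXB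
      have hex : ∀ x : X, ∃ p : V × V, p.1 ∈ A ∧ p.2 ∈ B ∧ p.1 + p.2 = x := by
        intro x
        obtain ⟨a, ha, b, hb, hab⟩ := AddSubgroup.mem_sup.1 (hXs x.2)
        exact ⟨(a, b), ha, hb, hab⟩
      choose p hp using hex
      have uniq : ∀ a ∈ A, ∀ b ∈ B, ∀ a' ∈ A, ∀ b' ∈ B, a + b = a' + b' → a = a' ∧ b = b' := by
        intro a ha b hb a' ha' b' hb' h1
        have h2 : a - a' = b' - b := by
          rw [sub_eq_sub_iff_add_eq_add, h1, add_comm]
        have h3 : a - a' ∈ A ⊓ B := ⟨A.sub_mem ha ha', h2 ▸ B.sub_mem hb' hb⟩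
        rw [hAB, AddSubgroup.mem_bot] at h3
        have h4 : a = a' := sub_eq_zero.1 h3
        refine ⟨h4, ?_⟩
        rw [h3] at h2
        exact (sub_eq_zero.1 h2.symm).symm
      have hadd : ∀ x y : X, (p (x + y)).1 = (p x).1 + (p y).1 ∧ (p (x + y)).2 = (p x).2 + (p y).2 := by
        intro x y
        apply uniq _ (hp _).1 _ (hp _).2.1 _ (A.add_mem (hp x).1 (hp y).1) _ (B.add_mem (hp x).2.1 (hp y).2.1)
        rw [(hp (x + y)).2.2, AddSubgroup.coe_add, ← (hp x).2.2, ← (hp y).2.2]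
        exact add_add_add_comm _ _ _ _
      have hsm : ∀ o ∈ O, ∀ x y : X, (y : V) = o • (x : V) → (p y).1 = o • (p x).1 ∧ (p y).2 = o • (p x).2 := by
        intro o ho x y hxy
        apply uniq _ (hp _).1 _ (hp _).2.1 _ (hSA.inv o ho _ (hp x).1) _ (hBi o ho _ (hp x).2.1)
        rw [(hp y).2.2, hxy, ← (hp x).2.2, smul_add]
      let fa : X →+ V := AddMonoidHom.mk' (fun x => (p x).1) fun x y => (hadd x y).1
      let fb : X →+ V := AddMonoidHom.mk' (fun x => (p x).2) fun x y => (hadd x y).2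
      have hfa : ∀ x : X, fa x = (p x).1 := fun x => rfl
      have hfb : ∀ x : X, fb x = (p x).2 := fun x => rfl
      by_cases hb0 : fb = 0
      · have hXA : X ≤ A := by
          intro x hx
          have h1 := (hp ⟨x, hx⟩).2.2
          have h2 : (p ⟨x, hx⟩).2 = 0 := by rw [← hfb, hb0]; rfl
          rw [h2, add_zero] at h1
          have h3 := (hp ⟨x, hx⟩).1
          rwa [h1] at h3
        rcases hSA.min X hXA hX.inv with h1 | h1
        · exact absurd h1 hX.ne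
        · rw [h1]; exact Finset.mem_insert_self _ _
      · exfalso
        have ha0 : fa ≠ 0 := by
          intro ha0
          apply hX.ne
          rw [← hXB, eq_comm, inf_eq_left]
          intro x hx
          have h1 := (hp ⟨x, hx⟩).2.2
          have h2 : (p ⟨x, hx⟩).1 = 0 := by rw [← hfa, ha0]; rfl
          rw [h2, zero_add] at h1
          have h3 := (hp ⟨x, hx⟩).2.1
          rwa [h1] at h3
        obtain ⟨ea, _⟩ := exists_eqv hX fa (fun o ho x y h => (hsm o ho x y h).1) ha0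
        obtain ⟨eb, _⟩ := exists_eqv hX fb (fun o ho x y h => (hsm o ho x y h).2) hb0
        have hra : fa.range = A := by
          have h1 : fa.range ≤ A := by
            rintro _ ⟨x, rfl⟩
            exact (hp x).1
          rcases hSA.min _ h1 (hX.of_eqv ea).inv with h2 | h2
          · exact absurd h2 (hX.of_eqv ea).ne
          · exact h2
        have hrb : fb.range ∈ Ω := by
          apply ih' _ (hX.of_eqv eb)
          rintro _ ⟨x, rfl⟩
          exact (hp x).2.1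
        rw [hra] at ea
        have h1 := hn A (Finset.mem_insert_self _ _) _ (Finset.mem_insert_of_mem hrb)
          ⟨(ea.symm hX.inv).trans eb⟩
        have h2 : A ≤ B := by
          rw [h1]
          exact Finset.le_sup (f := id) hrb
        rw [inf_eq_left.2 h2] at hAB
        exact hSA.ne hAB
    · have h1 : X ⊓ B = X := (hX.min (X ⊓ B) inf_le_left (hX.inv.inf hBi)).resolve_left hXB
      exact Finset.mem_insert_of_mem (ih' X hX (inf_eq_left.1 h1))

/-- the number of submodules of `M` isomorphic to `S` is odd -/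
theorem odd_card [Finite V] (two : ∀ v : V, v + v = 0) {S M : AddSubgroup V} (hS : Simp O S) (hSM : S ≤ M) :
    Odd (Nat.card {B : AddSubgroup V // B ≤ M ∧ Nonempty (Eqv O S B)}) := by
  classical
  -- the homomorphisms
  let H : AddSubgroup (S →+ V) :=
    { carrier := {f | (∀ o ∈ O, ∀ a a' : S, (a' : V) = o • (a : V) → f a' = o • f a) ∧ ∀ a, f a ∈ M}
      zero_mem' := ⟨fun o _ a a' _ => (smul_zero o).symm, fun a => zero_mem _⟩
      add_mem' := fun {f g} hf hg => ⟨fun o ho a a' h => by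
        rw [AddMonoidHom.add_apply, AddMonoidHom.add_apply, smul_add, hf.1 o ho a a' h, hg.1 o ho a a' h],
        fun a => M.add_mem (hf.2 a) (hg.2 a)⟩
      neg_mem' := fun {f} hf => ⟨fun o ho a a' h => by
        rw [AddMonoidHom.neg_apply, AddMonoidHom.neg_apply, smul_neg, hf.1 o ho a a' h],
        fun a => M.neg_mem (hf.2 a)⟩ }
  have hfin : Finite (S →+ V) := Finite.of_injective (fun f : S →+ V => (f : S → V)) DFunLike.coe_injective
  have h2 : ∀ f : H, f + f = 0 := fun f => Subtype.ext (AddMonoidHom.ext fun a => two _)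
  have hev : 2 ∣ Nat.card H := by
    let f0 : H := ⟨S.subtype, fun o _ a a' h => h, fun a => hSM a.2⟩
    have hne : f0 ≠ 0 := by
      intro h
      apply hS.ne
      rw [eq_bot_iff]
      intro s hs
      have h1 : ((f0 : S →+ V) ⟨s, hs⟩ : V) = 0 := by rw [h]; rfl
      rw [AddSubgroup.mem_bot]
      exact h1
    have h1 : addOrderOf f0 = 2 := by
      apply addOrderOf_eq_prime _ hne
      rw [two_nsmul]
      exact h2 f0
    rw [← h1]
    exact addOrderOf_dvd_natCard f0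
  -- the count
  let c := {B : AddSubgroup V // B ≤ M ∧ Nonempty (Eqv O S B)}
  let E : (Σ B : c, Eqv O S B.1) → {f : H // f ≠ 0} := fun x =>
    ⟨⟨(x.1.1.subtype).comp x.2.1.toAddMonoidHom, fun o ho a a' h => x.2.2 o ho a a' h,
      fun a => x.1.2.1 (x.2.1 a).2⟩, fun h => hS.ne (by
        rw [eq_bot_iff]
        intro s hs
        have h1 : (x.2.1 ⟨s, hs⟩ : V) = 0 := by
          have := congrArg (fun f : H => (f : S →+ V) ⟨s, hs⟩) h
          exact this
        have h3 : x.2.1 ⟨s, hs⟩ = 0 := Subtype.ext h1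
        rw [EmbeddingLike.map_eq_zero_iff] at h3
        rw [AddSubgroup.mem_bot]
        exact congrArg Subtype.val h3)⟩
  have hE : Function.Bijective E := by
    constructor
    · rintro ⟨⟨B, hB⟩, e⟩ ⟨⟨B', hB'⟩, e'⟩ h
      have h1 : ∀ s : S, (e.1 s : V) = (e'.1 s : V) := by
        intro s
        exact congrArg (fun f : {f : H // f ≠ 0} => ((f : H) : S →+ V) s) h
      have hBB : B = B' := by
        ext v
        constructor
        · intro hv
          have h3 := h1 (e.1.symm ⟨v, hv⟩)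
          rw [AddEquiv.apply_symm_apply] at h3
          change v = _ at h3
          rw [h3]
          exact SetLike.coe_mem _
        · intro hv
          have h3 := h1 (e'.1.symm ⟨v, hv⟩)
          rw [AddEquiv.apply_symm_apply] at h3
          change _ = v at h3
          rw [← h3]
          exact SetLike.coe_mem _
      subst hBB
      have : e = e' := by
        apply Subtype.ext
        ext s
        exact h1 s
      rw [this]
    · rintro ⟨⟨f, hf⟩, hf0⟩
      have hf0' : f ≠ 0 := fun h => hf0 (Subtype.ext h)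
      obtain ⟨e, he⟩ := exists_eqv hS f hf.1 hf0'
      refine ⟨⟨⟨f.range, ?_, ⟨e⟩⟩, e⟩, ?_⟩
      · rintro _ ⟨a, rfl⟩
        exact hf.2 a
      · apply Subtype.ext
        apply Subtype.ext
        ext a
        exact he a
  have hcongr : ∀ B : c, Nat.card (Eqv O S B.1) = Nat.card (Eqv O S S) := by
    rintro ⟨B, hB, ⟨e⟩⟩
    refine Nat.card_congr ⟨fun f => f.trans (e.symm hS.inv), fun f => f.trans e, fun f => ?_, fun f => ?_⟩
    · apply Subtype.ext
      ext s
      change (e.1 (e.1.symm (f.1 s)) : V) = _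
      rw [AddEquiv.apply_symm_apply]
    · apply Subtype.ext
      ext s
      change (e.1.symm (e.1 (f.1 s)) : V) = _
      rw [AddEquiv.symm_apply_apply]
  have hfe : ∀ B : AddSubgroup V, Finite (Eqv O S B) := by
    intro B
    apply Finite.of_injective (fun e : Eqv O S B => ((e.1 : S ≃+ B) : S → B))
    intro e e' h
    apply Subtype.ext
    ext s
    exact congrArg Subtype.val (congrFun h s)
  have hcard : Nat.card {f : H // f ≠ 0} = Nat.card c * Nat.card (Eqv O S S) := by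
    rw [← Nat.card_congr (Equiv.ofBijective E hE)]
    have : Fintype c := Fintype.ofFinite c
    rw [Nat.card_sigma, Finset.sum_congr rfl fun B _ => hcongr B, Finset.sum_const, Finset.card_univ,
      Fintype.card_eq_nat_card, smul_eq_mul]
  have hcard2 : Nat.card H = Nat.card {f : H // f ≠ 0} + 1 := by
    have : Fintype H := Fintype.ofFinite H
    rw [Nat.card_eq_fintype_card, Nat.card_eq_fintype_card, Fintype.card_subtype_compl, Fintype.card_subtype_eq]
    have := Fintype.card_pos (α := H)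
    omega
  have hodd : Odd (Nat.card {f : H // f ≠ 0}) := by
    rw [← Nat.not_even_iff_odd, even_iff_two_dvd]
    omega
  rw [hcard] at hodd
  exact (Nat.odd_mul.1 hodd).1

/-- **Clifford over a 2-group**: an irreducible module of `O T` is multiplicity-free for `O`. -/
theorem eq_of_eqv [Finite V] (two : ∀ v : V, v + v = 0) [O.Normal] {T : Subgroup L} (hT : IsPGroup 2 T)
    (hOT : O ⊔ T = ⊤) {M : AddSubgroup V} (hM : Inv (⊤ : Subgroup L) M)
    (irr : ∀ W ≤ M, Inv (⊤ : Subgroup L) W → W = ⊥ ∨ W = M)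
    {S S' : AddSubgroup V} (hS : Simp O S) (hSM : S ≤ M) (hSM' : S' ≤ M) (e : Eqv O S S') : S = S' := by
  classical
  have : Fact (Nat.Prime 2) := ⟨Nat.prime_two⟩
  -- the stabiliser of the type
  let P : Subgroup T :=
    { carrier := {t | Nonempty (Eqv O S ((t : L) • S))}
      one_mem' := by
        refine ⟨?_⟩
        rw [Subgroup.coe_one, one_smul]
        exact Eqv.refl O S
      mul_mem' := by
        rintro a b ⟨ea⟩ ⟨eb⟩
        refine ⟨?_⟩
        rw [Subgroup.coe_mul, mul_smul]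
        exact ea.trans (eb.smul (a : L))
      inv_mem' := by
        rintro a ⟨ea⟩
        refine ⟨?_⟩
        have h1 := ea.smul (a⁻¹ : L)
        rw [inv_smul_smul] at h1
        exact h1.symm (hS.inv.smul _) }
  have hP : ∀ t : T, t ∈ P ↔ Nonempty (Eqv O S ((t : L) • S)) := fun t => Iff.rfl
  let c := {B : AddSubgroup V // B ≤ M ∧ Nonempty (Eqv O S B)}
  have hsmM : ∀ (t : L) (B : AddSubgroup V), B ≤ M → t • B ≤ M := by
    rintro t B hB _ hx
    obtain ⟨b, hb, rfl⟩ := (AddSubgroup.mem_smul_pointwise_iff_exists _ _ _).1 hx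
    exact hM t (Subgroup.mem_top t) b (hB hb)
  let act : MulAction P c :=
    { smul := fun t B => ⟨((t : T) : L) • B.1, hsmM _ _ B.2.1, by
        obtain ⟨eB⟩ := B.2.2
        obtain ⟨et⟩ := (hP _).1 t.2
        exact ⟨et.trans (eB.smul _)⟩⟩
      one_smul := fun B => Subtype.ext (one_smul L B.1)
      mul_smul := fun s t B => Subtype.ext (mul_smul ((s : T) : L) ((t : T) : L) B.1) }
  have hfix : (MulAction.fixedPoints P c).Nonempty := by
    apply (hT.to_subgroup P).nonempty_fixed_point_of_prime_not_dvd_card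
    have := odd_card (O := O) two hS hSM
    rw [← Nat.not_even_iff_odd, even_iff_two_dvd] at this
    exact this
  obtain ⟨⟨B, hBM, ⟨eB⟩⟩, hBfix⟩ := hfix
  have hfixB : ∀ t : T, t ∈ P → (t : L) • B = B := by
    intro t ht
    have h1 := hBfix ⟨t, ht⟩
    exact congrArg Subtype.val h1
  have hBs : Simp O B := hS.of_eqv eB
  -- the orbit
  have hfinT : (Set.range fun t : T => (t : L) • B).Finite := Set.toFinite _
  let Ω : Finset (AddSubgroup V) := hfinT.toFinset
  have hΩ : ∀ X, X ∈ Ω ↔ ∃ t : T, (t : L) • B = X := by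
    intro X
    rw [Set.Finite.mem_toFinset]
    exact Iff.rfl
  have hΩs : ∀ X ∈ Ω, Simp O X := by
    intro X hX
    obtain ⟨t, rfl⟩ := (hΩ X).1 hX
    exact hBs.smul _
  have hPB : ∀ t : T, Nonempty (Eqv O B ((t : L) • B)) → t ∈ P := by
    rintro t ⟨f⟩
    rw [hP]
    exact ⟨(eB.trans f).trans ((eB.symm hS.inv).smul _)⟩
  have hΩn : ∀ X ∈ Ω, ∀ X' ∈ Ω, Nonempty (Eqv O X X') → X = X' := by
    intro X hX X' hX' hf
    obtain ⟨t, rfl⟩ := (hΩ X).1 hX
    obtain ⟨t', rfl⟩ := (hΩ X').1 hX'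
    obtain ⟨f⟩ := hf
    have h1 : t⁻¹ * t' ∈ P := by
      apply hPB
      have h1 := f.smul ((t : L)⁻¹)
      rw [inv_smul_smul, ← mul_smul] at h1
      exact ⟨h1⟩
    have h2 := hfixB _ h1
    rw [Subgroup.coe_mul, Subgroup.coe_inv, mul_smul, inv_smul_eq_iff] at h2
    exact h2.symm
  -- the sum
  set W := Ω.sup id with hW
  have hWO : Inv O W := Inv.fsup Ω fun X hX => (hΩs X hX).inv
  have hWT : ∀ t ∈ T, ∀ w ∈ W, t • w ∈ W := by
    intro t ht
    have h1 : W ≤ (t⁻¹ : L) • W := by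
      rw [hW]
      apply Finset.sup_le
      intro X hX
      obtain ⟨s, rfl⟩ := (hΩ X).1 hX
      rw [id, AddSubgroup.le_pointwise_smul_iff, inv_inv, ← mul_smul]
      exact Finset.le_sup (f := id) ((hΩ _).2 ⟨⟨t, ht⟩ * s, rfl⟩)
    intro w hw
    have h2 := h1 hw
    rwa [AddSubgroup.mem_inv_pointwise_smul_iff] at h2
  have hWi : Inv (⊤ : Subgroup L) W := by
    intro l _ w hw
    have h1 : l ∈ O ⊔ T := hOT ▸ Subgroup.mem_top l
    obtain ⟨o, ho, t, ht, rfl⟩ := Subgroup.mem_sup_of_normal_left.1 h1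
    rw [mul_smul]
    exact hWO o ho _ (hWT t ht w hw)
  have hWM : W ≤ M := by
    rw [hW]
    apply Finset.sup_le
    intro X hX
    obtain ⟨s, rfl⟩ := (hΩ X).1 hX
    exact hsmM _ _ hBM
  have hBW : B ≤ W := by
    have : B ∈ Ω := (hΩ B).2 ⟨1, by rw [Subgroup.coe_one, one_smul]⟩
    exact Finset.le_sup (f := id) this
  have hWeq : W = M := by
    rcases irr W hWM hWi with h1 | h1
    · exfalso
      rw [h1, le_bot_iff] at hBW
      exact hBs.ne hBW
    · exact h1
  have key : ∀ X : AddSubgroup V, X ≤ M → Eqv O S X → X = B := by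
    intro X hX f
    have h1 : X ∈ Ω := mem_of_le_sup Ω hΩs hΩn X (hS.of_eqv f) (by rw [← hW, hWeq]; exact hX)
    obtain ⟨t, rfl⟩ := (hΩ X).1 h1
    exact hfixB t (hPB t ⟨(eB.symm hS.inv).trans f⟩)
  rw [key S hSM (Eqv.refl O S), key S' hSM' e]

/-! ### the offender -/

section off

variable {M : AddSubgroup V} {N : Subgroup L}

theorem add_self_add (two : ∀ v : V, v + v = 0) (a m : V) : a + m + m = a := by
  rw [add_assoc, two, add_zero]

/-- `o [n, v] = [n^o, v]` -/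
theorem equi (two : ∀ v : V, v + v = 0) (hNO : ∀ o ∈ O, ∀ n ∈ N, o * n * o⁻¹ ∈ N)
    (hMN : ∀ n ∈ N, ∀ m ∈ M, n • m = m) (hVO : ∀ o ∈ O, ∀ v : V, o • v + v ∈ M) {o n : L} (ho : o ∈ O) (hn : n ∈ N)
    (v : V) : o • (n • v + v) = (o * n * o⁻¹) • v + v := by
  have h1 := hVO o ho v
  have h2 := hMN _ (hNO o ho n hn) _ h1
  have h3 : v = o • v + (o • v + v) := by
    rw [← add_assoc, two, zero_add]
  have h4 : (o * n * o⁻¹) • v = (o * n * o⁻¹) • (o • v) + (o • v + v) := by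
    conv_lhs => rw [h3]
    rw [smul_add, h2]
  rw [h4, smul_add, ← mul_smul, ← mul_smul, inv_mul_cancel_right, add_assoc, add_assoc, two, add_zero]

theorem comp (hVN : ∀ n ∈ N, ∀ v : V, n • v + v ∈ M) (hMN : ∀ n ∈ N, ∀ m ∈ M, n • m = m)
    (two : ∀ v : V, v + v = 0) {n n' : L} (hn : n ∈ N) (hn' : n' ∈ N) (v : V) :
    (n * n') • v + v = n • v + v + (n' • v + v) := by
  have h1 := hMN n hn _ (hVN n' hn' v)
  rw [smul_add, ← mul_smul] at h1
  have h2 : (n * n') • v = n' • v + v + n • v := by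
    rw [← h1, add_self_add two]
  rw [h2]
  abel

theorem inv_eq (hVN : ∀ n ∈ N, ∀ v : V, n • v + v ∈ M) (hMN : ∀ n ∈ N, ∀ m ∈ M, n • m = m)
    {n : L} (hn : n ∈ N) (v : V) : n⁻¹ • v + v = n • v + v := by
  have h1 := hMN n⁻¹ (N.inv_mem hn) _ (hVN n hn v)
  rw [smul_add, inv_smul_smul] at h1
  rw [← h1, add_comm]

/-- **(q5)** a minimal `O`-invariant quadratic subgroup is an offender. -/
theorem index_le [Finite V] [Finite L] (two : ∀ v : V, v + v = 0) [O.Normal] {T : Subgroup L} (hT : IsPGroup 2 T)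
    (hOT : O ⊔ T = ⊤) (hM : Inv (⊤ : Subgroup L) M)
    (irr : ∀ W ≤ M, Inv (⊤ : Subgroup L) W → W = ⊥ ∨ W = M)
    (hNne : N ≠ ⊥) (hNO : ∀ o ∈ O, ∀ n ∈ N, o * n * o⁻¹ ∈ N)
    (hNmin : ∀ N' ≤ N, (∀ o ∈ O, ∀ n ∈ N', o * n * o⁻¹ ∈ N') → N' = ⊥ ∨ N' = N)
    (hVN : ∀ n ∈ N, ∀ v : V, n • v + v ∈ M) (hMN : ∀ n ∈ N, ∀ m ∈ M, n • m = m)
    (hVO : ∀ o ∈ O, ∀ v : V, o • v + v ∈ M) : (AB.fx V N).index ≤ Nat.card N := by
  classical
  have heq := fun {o n : L} (ho : o ∈ O) (hn : n ∈ N) v => equi two hNO hMN hVO ho hn v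
  have hcomp := fun {n n' : L} (hn : n ∈ N) (hn' : n' ∈ N) v => comp hVN hMN two hn hn' v
  have hinv := fun {n : L} (hn : n ∈ N) v => inv_eq hVN hMN hn v
  have add0 : ∀ {a b : V}, a + b = 0 → a = b := by
    intro a b h
    have h1 : a + b + b = 0 + b := by rw [h]
    rwa [add_self_add two, zero_add] at h1
  -- the kernels
  have hK : ∀ v : V, N ⊓ MulAction.stabilizer L v = ⊥ ∨ N ⊓ MulAction.stabilizer L v = N := by
    intro v
    apply hNmin _ inf_le_left
    rintro o ho n ⟨hn, hnv⟩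
    refine ⟨hNO o ho n hn, ?_⟩
    have hnv' : n • v = v := hnv
    have h1 := heq ho hn v
    rw [hnv', two, smul_zero] at h1
    exact add0 h1.symm
  have hKN : ∀ v : V, N ⊓ MulAction.stabilizer L v = N → v ∈ AB.fx V N := by
    intro v h n hn
    rw [← h] at hn
    exact hn.2
  obtain ⟨n₀, hn₀, hn₀1⟩ : ∃ n ∈ N, n ≠ 1 := by
    by_contra hcon
    push Not at hcon
    apply hNne
    rw [eq_bot_iff]
    intro n hn
    exact hcon n hn
  by_cases hall : ∀ v : V, N ⊓ MulAction.stabilizer L v = N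
  · have h1 : AB.fx V N = ⊤ := by
      rw [eq_top_iff]
      intro v _
      exact hKN v (hall v)
    rw [h1, AddSubgroup.index_top]
    exact Nat.card_pos
  push Not at hall
  obtain ⟨v₀, hv₀⟩ := hall
  have hv₀' := (hK v₀).resolve_right hv₀
  -- the images
  let S : V → AddSubgroup V := fun v =>
    { carrier := {x | ∃ n ∈ N, x = n • v + v}
      zero_mem' := ⟨1, N.one_mem, by rw [one_smul, two]⟩
      add_mem' := by
        rintro _ _ ⟨n, hn, rfl⟩ ⟨n', hn', rfl⟩
        exact ⟨n * n', N.mul_mem hn hn', (hcomp hn hn' v).symm⟩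
      neg_mem' := by
        rintro _ ⟨n, hn, rfl⟩
        exact ⟨n, hn, by rw [neg_eq_iff_add_eq_zero, two]⟩ }
  have hSM : ∀ v, S v ≤ M := by
    rintro v _ ⟨n, hn, rfl⟩
    exact hVN n hn v
  let g : ∀ v, N → S v := fun v n => ⟨(n : L) • v + v, n, n.2, rfl⟩
  have hg : ∀ v, N ⊓ MulAction.stabilizer L v = ⊥ → Function.Bijective (g v) := by
    intro v hv
    constructor
    · intro n n' h
      have h1 : (n : L) • v + v = (n' : L) • v + v := congrArg Subtype.val h
      have h2 := add_right_cancel h1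
      have h3 : (n' : L)⁻¹ * n ∈ N ⊓ MulAction.stabilizer L v := by
        refine ⟨N.mul_mem (N.inv_mem n'.2) n.2, ?_⟩
        change ((n' : L)⁻¹ * n) • v = v
        rw [mul_smul, h2, inv_smul_smul]
      rw [hv, Subgroup.mem_bot, inv_mul_eq_one] at h3
      exact Subtype.ext h3.symm
    · rintro ⟨_, n, hn, rfl⟩
      exact ⟨⟨n, hn⟩, rfl⟩
  have hgmul : ∀ v n n', g v (n * n') = g v n + g v n' := fun v n n' => Subtype.ext (hcomp n.2 n'.2 v)
  have hsimp : ∀ v, N ⊓ MulAction.stabilizer L v = ⊥ → Simp O (S v) := by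
    intro v hv
    refine ⟨?_, ?_, ?_⟩
    · rintro o ho _ ⟨n, hn, rfl⟩
      exact ⟨_, hNO o ho n hn, heq ho hn v⟩
    · intro h
      have h1 : n₀ • v + v ∈ S v := ⟨n₀, hn₀, rfl⟩
      rw [h, AddSubgroup.mem_bot] at h1
      have h2 : n₀ ∈ N ⊓ MulAction.stabilizer L v := ⟨hn₀, add0 h1⟩
      rw [hv, Subgroup.mem_bot] at h2
      exact hn₀1 h2
    · intro B hB hBi
      let N' : Subgroup L :=
        { carrier := {n | n ∈ N ∧ n • v + v ∈ B}
          one_mem' := ⟨N.one_mem, by rw [one_smul, two]; exact zero_mem _⟩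
          mul_mem' := by
            rintro n n' ⟨hn, h1⟩ ⟨hn', h2⟩
            refine ⟨N.mul_mem hn hn', ?_⟩
            rw [hcomp hn hn']
            exact B.add_mem h1 h2
          inv_mem' := by
            rintro n ⟨hn, h1⟩
            refine ⟨N.inv_mem hn, ?_⟩
            rw [hinv hn]
            exact h1 }
      have hN' : ∀ n, n ∈ N' ↔ n ∈ N ∧ n • v + v ∈ B := fun n => Iff.rfl
      rcases hNmin N' (fun n hn => hn.1) (by
        rintro o ho n ⟨hn, h1⟩
        refine ⟨hNO o ho n hn, ?_⟩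
        rw [← heq ho hn]
        exact hBi o ho _ h1) with h1 | h1
      · left
        rw [eq_bot_iff]
        intro x hx
        obtain ⟨n, hn, rfl⟩ := hB hx
        have h2 : n ∈ N' := ⟨hn, hx⟩
        rw [h1, Subgroup.mem_bot] at h2
        rw [h2, one_smul, two]
        exact zero_mem _
      · right
        apply le_antisymm hB
        rintro _ ⟨n, hn, rfl⟩
        have h2 : n ∈ N' := by rw [h1]; exact hn
        exact h2.2
  have heqv : ∀ v w, N ⊓ MulAction.stabilizer L v = ⊥ → N ⊓ MulAction.stabilizer L w = ⊥ →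
      Nonempty (Eqv O (S v) (S w)) := by
    intro v w hv hw
    let gv := Equiv.ofBijective (g v) (hg v hv)
    let gw := Equiv.ofBijective (g w) (hg w hw)
    have hgv : ∀ n, gv n = g v n := fun n => rfl
    have hgw : ∀ n, gw n = g w n := fun n => rfl
    refine ⟨⟨{ gv.symm.trans gw with map_add' := ?_ }, ?_⟩⟩
    · intro x y
      change gw (gv.symm (x + y)) = gw (gv.symm x) + gw (gv.symm y)
      have h1 : gv.symm (x + y) = gv.symm x * gv.symm y := by
        rw [Equiv.symm_apply_eq, hgv, hgmul, ← hgv, ← hgv, Equiv.apply_symm_apply, Equiv.apply_symm_apply]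
      rw [h1, hgw, hgmul]
      rfl
    · intro o ho x y hxy
      change (gw (gv.symm y) : V) = o • (gw (gv.symm x) : V)
      obtain ⟨n, rfl⟩ := gv.surjective x
      have h1 : y = gv ⟨o * n * o⁻¹, hNO o ho n n.2⟩ := by
        apply Subtype.ext
        rw [hxy]
        exact heq ho n.2 v
      rw [h1, Equiv.symm_apply_apply, Equiv.symm_apply_apply]
      exact (heq ho n.2 w).symm
  have hSeq : ∀ v, N ⊓ MulAction.stabilizer L v = ⊥ → S v = S v₀ := by
    intro v hv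
    obtain ⟨e⟩ := heqv v v₀ hv hv₀'
    exact eq_of_eqv two hT hOT hM irr (hsimp v hv) (hSM v) (hSM v₀) e
  -- the map
  let φ : V →+ V := AddMonoidHom.mk' (fun v => n₀ • v + v) (fun v w => by rw [smul_add]; abel)
  have hφ : ∀ v, φ v = n₀ • v + v := fun v => rfl
  have hker : φ.ker = AB.fx V N := by
    ext v
    constructor
    · intro hv
      have h1 : n₀ • v + v = 0 := hv
      have h2 : n₀ ∈ N ⊓ MulAction.stabilizer L v := ⟨hn₀, add0 h1⟩
      apply hKN
      refine (hK v).resolve_left fun h3 => ?_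
      rw [h3, Subgroup.mem_bot] at h2
      exact hn₀1 h2
    · intro hv
      change n₀ • v + v = 0
      rw [hv n₀ hn₀, two]
  have hran : φ.range ≤ S v₀ := by
    rintro _ ⟨v, rfl⟩
    rw [hφ]
    rcases hK v with h | h
    · rw [← hSeq v h]
      exact ⟨n₀, hn₀, rfl⟩
    · rw [hKN v h n₀ hn₀, two]
      exact zero_mem _
  rw [← hker, AddSubgroup.index_ker]
  have h1 : Nat.card φ.range ≤ Nat.card (S v₀) := Nat.card_le_card_of_injective _ (AddSubgroup.inclusion_injective hran)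
  exact h1.trans (Nat.card_congr (Equiv.ofBijective _ (hg v₀ hv₀'))).ge

end off

end Cfsg.Agent.Omega.NO1.TH.MF

end

end

-- merged: Cfsg.Agent.Mrg.Omega.NO1.AB.Beta
section

section


/-!
# N1, ALPHA / BETA (bb OMEGA 17581, helper645): case BETA

`Loc.beta` : if `g X₁ ≤ E` for all `g ∉ L₁` (`X = C_V(Q)`, `X₁ = X ∩ F`), then `X = X₁ + g X₁`, `X / C` has the spread
`{g X₁ / C}`, `|X₁ / C| = |A / A ∩ Q|`, `C_A(x) = A ∩ Q` for `x ∈ X - X₁`, `C_V(A ∩ Q) = X + F`.
-/

set_option autoImplicit false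
set_option linter.unusedSectionVars false

namespace Cfsg.Agent.Omega.NO1.AB

open Subgroup
open scoped Pointwise

universe u

variable {L : Type u} [Group L] {V : Type u} [AddCommGroup V] [DistribMulAction L V]

theorem mem_smul_as {g : L} {W : AddSubgroup V} {v : V} : v ∈ g • W ↔ g⁻¹ • v ∈ W :=
  AddSubgroup.mem_pointwise_smul_iff_inv_smul_mem

theorem smul_mem_smul_as {g : L} {W : AddSubgroup V} {v : V} (h : v ∈ W) : g • v ∈ g • W := by
  rw [mem_smul_as, inv_smul_smul]; exact h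

theorem card_smul_as (g : L) (W : AddSubgroup V) : Nat.card ↥(g • W) = Nat.card W :=
  Nat.card_congr
    { toFun := fun v => ⟨g⁻¹ • (v : V), mem_smul_as.1 v.2⟩
      invFun := fun v => ⟨g • (v : V), smul_mem_smul_as v.2⟩
      left_inv := fun v => Subtype.ext (smul_inv_smul g (v : V))
      right_inv := fun v => Subtype.ext (inv_smul_smul g (v : V)) }

theorem eq_of_le_as [Finite V] {W₁ W₂ : AddSubgroup V} (h : W₁ ≤ W₂) (hc : Nat.card W₂ ≤ Nat.card W₁) :
    W₁ = W₂ := by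
  apply SetLike.coe_injective
  exact Set.eq_of_subset_of_ncard_le h hc (Set.toFinite _)

theorem card_sup_as [Finite V] (W₁ W₂ : AddSubgroup V) :
    Nat.card ↥(W₁ ⊔ W₂) * Nat.card ↥(W₁ ⊓ W₂) = Nat.card W₁ * Nat.card W₂ := by
  have h1 := AddSubgroup.relIndex_mul_relIndex ⊥ (W₁ ⊓ W₂) W₂ bot_le inf_le_right
  have h2 := AddSubgroup.relIndex_mul_relIndex ⊥ W₁ (W₁ ⊔ W₂) bot_le le_sup_left
  rw [AddSubgroup.relIndex_bot_left, AddSubgroup.relIndex_bot_left, AddSubgroup.inf_relIndex_right] at h1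
  rw [AddSubgroup.relIndex_bot_left, AddSubgroup.relIndex_bot_left, AddSubgroup.relIndex_sup_left] at h2
  rw [← h1, ← h2]
  ring

theorem fx_inv {Q : Subgroup L} (hQ : Q.Normal) (g : L) {x : V} (hx : x ∈ fx V Q) : g • x ∈ fx V Q := by
  intro q hq
  have h1 := hx _ (by simpa using hQ.conj_mem q hq g⁻¹)
  rw [mul_smul, mul_smul, inv_smul_eq_iff] at h1
  exact h1

theorem smul_fx {Q : Subgroup L} (hQ : Q.Normal) (g : L) : g • fx V Q = fx V Q := by
  ext v
  rw [mem_smul_as]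
  constructor
  · intro h
    have := fx_inv hQ g h
    rwa [smul_inv_smul] at this
  · intro h
    exact fx_inv hQ g⁻¹ h

theorem smul_add_top {g : L} {c : V} (hc : c ∈ fx V (⊤ : Subgroup L)) : g • c = c := hc g (mem_top g)

/-- fixed points modulo a submodule -/
theorem exists_fixed_mod [Finite V] (h2 : ∀ v : V, v + v = 0) {R : Subgroup L} (hR : IsPGroup 2 R)
    (W C : AddSubgroup V) (hW : ∀ r ∈ R, ∀ w ∈ W, r • w ∈ W) (hC : ∀ r ∈ R, ∀ w ∈ C, r • w ∈ C)
    (hne : ∃ w ∈ W, w ∉ C) : ∃ w ∈ W, w ∉ C ∧ ∀ r ∈ R, r • w + w ∈ C := by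
  have : Fact (Nat.Prime 2) := ⟨Nat.prime_two⟩
  let C' : AddSubgroup W := C.addSubgroupOf W
  let φ : R → (W →+ W) := fun r =>
    { toFun := fun w => ⟨(r : L) • (w : V), hW r r.2 w w.2⟩
      map_zero' := Subtype.ext (smul_zero (r : L))
      map_add' := fun a b => Subtype.ext (smul_add (r : L) (a : V) (b : V)) }
  have hφ : ∀ r, C' ≤ C'.comap (φ r) := fun r w hw => by
    rw [AddSubgroup.mem_comap]
    exact hC r r.2 _ hw
  let _ : MulAction R (W ⧸ C') :=
    { smul := fun r q => QuotientAddGroup.map C' C' (φ r) (hφ r) q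
      one_smul := fun q => by
        induction q using QuotientAddGroup.induction_on with
        | H w =>
          change QuotientAddGroup.map C' C' (φ 1) (hφ 1) _ = _
          rw [QuotientAddGroup.map_mk]
          congr 1
          exact Subtype.ext (one_smul L (w : V))
      mul_smul := fun r s q => by
        induction q using QuotientAddGroup.induction_on with
        | H w =>
          change QuotientAddGroup.map C' C' (φ (r * s)) (hφ _) _ =
            QuotientAddGroup.map C' C' (φ r) (hφ r) (QuotientAddGroup.map C' C' (φ s) (hφ s) _)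
          rw [QuotientAddGroup.map_mk, QuotientAddGroup.map_mk, QuotientAddGroup.map_mk]
          congr 1
          exact Subtype.ext (mul_smul (r : L) (s : L) (w : V)) }
  have hmk : ∀ (r : R) (w : W), r • (QuotientAddGroup.mk w : W ⧸ C') = QuotientAddGroup.mk (φ r w) :=
    fun _ _ => rfl
  obtain ⟨w, hw, hw0⟩ := hne
  have h1 : 2 ∣ Nat.card (W ⧸ C') := by
    have h3 : addOrderOf (QuotientAddGroup.mk (⟨w, hw⟩ : W) : W ⧸ C') = 2 := by
      refine addOrderOf_eq_prime ?_ ?_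
      · rw [two_nsmul, ← QuotientAddGroup.mk_add]
        have : (⟨w, hw⟩ : W) + ⟨w, hw⟩ = 0 := Subtype.ext (h2 w)
        rw [this]; rfl
      · intro h
        rw [QuotientAddGroup.eq_zero_iff] at h
        exact hw0 h
    rw [← h3]
    exact addOrderOf_dvd_natCard _
  obtain ⟨x, hx, hne⟩ := hR.exists_fixed_point_of_prime_dvd_card_of_fixed_point (W ⧸ C') h1 (a := 0) (by
    intro r
    exact map_zero (QuotientAddGroup.map C' C' (φ r) (hφ r)))
  induction x using QuotientAddGroup.induction_on with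
  | H x =>
    refine ⟨x, x.2, fun h => hne ?_, fun r hr => ?_⟩
    · symm
      rw [QuotientAddGroup.eq_zero_iff]
      exact h
    · have h4 := hx ⟨r, hr⟩
      rw [hmk, QuotientAddGroup.eq] at h4
      have h5 : -(r • (x : V)) + (x : V) ∈ C := h4
      have h6 : -(r • (x : V)) = r • (x : V) := neg_eq_of_add_eq_zero_left (h2 _)
      rwa [h6] at h5

/-- a 2-subgroup of `K ≥ P` is conjugate in `K` into `P` -/
theorem sylow_conj [Finite L] (P : Sylow 2 L) {K : Subgroup L} (hK : (P : Subgroup L) ≤ K) {R : Subgroup L}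
    (hR : IsPGroup 2 R) (hRK : R ≤ K) : ∃ k ∈ K, ∀ r ∈ R, k⁻¹ * r * k ∈ P := by
  have : Fact (Nat.Prime 2) := ⟨Nat.prime_two⟩
  let TK : Sylow 2 K := P.subtype hK
  have hRK' : IsPGroup 2 (R.subgroupOf K) := hR.comap_of_injective K.subtype Subtype.coe_injective
  obtain ⟨Q, hQ⟩ := hRK'.exists_le_sylow
  obtain ⟨k, hk⟩ := MulAction.exists_smul_eq K TK Q
  refine ⟨k, k.2, fun r hr => ?_⟩
  have h1 : (⟨r, hRK hr⟩ : K) ∈ (Q : Subgroup K) := hQ (mem_subgroupOf.mpr hr)
  rw [← hk, Sylow.coe_subgroup_smul, Subgroup.mem_pointwise_smul_iff_inv_smul_mem] at h1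
  have h2 : ((k⁻¹ * ⟨r, hRK hr⟩ * k : K)) ∈ (TK : Subgroup K) := by
    have h3 : (MulAut.conj k)⁻¹ • (⟨r, hRK hr⟩ : K) = k⁻¹ * ⟨r, hRK hr⟩ * k := by
      rw [← map_inv, MulAut.smul_def, MulAut.conj_apply, inv_inv]
    rwa [h3] at h1
  exact h2

theorem isPGroup_zpowers_of_sq {y : L} (hy : y * y = 1) : IsPGroup 2 (zpowers y) := by
  rintro ⟨w, hw⟩
  obtain ⟨n, rfl⟩ := mem_zpowers_iff.mp hw
  refine ⟨1, Subtype.ext ?_⟩
  rw [pow_one]
  change (y ^ n) ^ 2 = 1
  rw [← zpow_natCast, ← zpow_mul, mul_comm, zpow_mul, zpow_natCast, pow_two, hy, one_zpow]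

/-- Conclusions of case BETA. -/
structure Beta (A : Subgroup L) (E F X : AddSubgroup V) (Q L₁ : Subgroup L) : Prop where
  XE : X ≤ E
  sup : ∀ g ∉ L₁, X = X ⊓ F ⊔ g • (X ⊓ F)
  cap : ∀ g ∉ L₁, ∀ a ∈ A, a ∈ MulAut.conj g • L₁ → a ∈ Q
  cen : ∀ x ∈ X, x ∉ F → ∀ a ∈ A, a • x = x → a ∈ Q
  cov : ∀ g ∉ L₁, ∀ x ∈ X, x ∉ F → ∃ a ∈ A, x ∈ (a * g) • (X ⊓ F)
  inv : ∀ g ∈ L₁, g • (X ⊓ F) = X ⊓ F
  tra : ∀ g ∉ L₁, ∀ k ∉ L₁, ∃ a ∈ A, (a * g)⁻¹ * k ∈ L₁
  card : Nat.card ↥(X ⊓ F) * Nat.card ↥(A ⊓ Q) = Nat.card ↥(fx V (⊤ : Subgroup L)) * Nat.card A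
  CVB : fx V (A ⊓ Q) = X ⊔ F
  ne : A ⊓ Q ≠ ⊥
  cc : ∀ a ∈ A, a ∉ Q → ∀ x ∈ X, a • x + x ∈ fx V (⊤ : Subgroup L) → x ∈ F
  full : ∀ v ∈ X, v ∉ F → ∀ x ∈ X ⊓ F, ∃ a ∈ A, ∃ c ∈ fx V (⊤ : Subgroup L), a • v + v = x + c

namespace Mem

variable {A : Subgroup L} {E F : AddSubgroup V} (h : Mem A E F)
include h

/-- the homomorphism `a ↦ [x, a]`, `x ∈ E` -/
theorem add_of (h2 : ∀ v : V, v + v = 0) {x : V} (hx : x ∈ E) {a b : L} (ha : a ∈ A) (hb : b ∈ A) :
    (a * b) • x + x = (a • x + x) + (b • x + x) := by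
  have h1 := h.FB a ha _ (h.EB b hb x hx)
  rw [smul_add] at h1
  rw [mul_smul]
  have h3 : a • b • x = b • x + x + a • x := by
    rw [← h1, add_assoc, h2, add_zero]
  rw [h3]
  abel

/-- `|E| = |F||A|` -/
theorem card_E [Finite L] [Finite V] (h2 : ∀ v : V, v + v = 0) : Nat.card E = Nat.card F * Nat.card A := by
  obtain ⟨w, hw⟩ := h.ne
  have hneg : ∀ v : V, -v = v := fun v => neg_eq_of_add_eq_zero_left (h2 v)
  let f : F × A → E := fun p => ⟨(p.2 : L) • w + w + p.1, E.add_mem (h.VB _ p.2.2 w) (h.FE p.1.2)⟩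
  have hf : Function.Bijective f := by
    constructor
    · rintro ⟨⟨x, hx⟩, ⟨a, ha⟩⟩ ⟨⟨y, hy⟩, ⟨b, hb⟩⟩ he
      have h3 : a • w + w + x = b • w + w + y := congrArg Subtype.val he
      -- `b⁻¹ a`
      have h4 : (b * a) • w + w ∈ F := by
        have h5 : a • w = b • w + y + x := by
          have : a • w + w + x + w + x = b • w + w + y + w + x := by rw [h3]
          have e1 : a • w + w + x + w + x = a • w + (w + w) + (x + x) := by abel
          have e2 : b • w + w + y + w + x = b • w + (w + w) + y + x := by abel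
          rw [e1, e2, h2, h2, add_zero, add_zero, add_zero] at this
          exact this
        rw [mul_smul, h5, smul_add, smul_add, ← mul_smul, h.sq b hb, one_smul, h.FB b hb y hy, h.FB b hb x hx]
        have e3 : w + y + x + w = (w + w) + (y + x) := by abel
        rw [e3, h2, zero_add]
        exact F.add_mem hy hx
      have h5 := h.inj w hw _ (mul_mem hb ha) h4
      have h6 : a = b := by
        have : b * (b * a) = b * 1 := by rw [h5]
        rw [← mul_assoc, h.sq b hb, one_mul, mul_one] at this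
        exact this
      subst h6
      have h7 : x = y := add_left_cancel h3
      subst h7
      rfl
    · rintro ⟨e, he⟩
      obtain ⟨b, hb, h3⟩ := h.surj w hw e he
      refine ⟨⟨⟨_, h3⟩, ⟨b, hb⟩⟩, Subtype.ext ?_⟩
      change b • w + w + (b • w + w + e) = e
      rw [← add_assoc, h2, zero_add]
  rw [← Nat.card_prod]
  exact (Nat.card_congr (Equiv.ofBijective f hf)).symm

end Mem

namespace Loc

variable {A : Subgroup L} {E F : AddSubgroup V} {Q L₁ : Subgroup L} {R : Sylow 2 L} {z : V}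
  (h : Loc A E F Q L₁ R z)
include h

theorem C_le_F : fx V (⊤ : Subgroup L) ≤ F := fun _ hv => h.mem.CB _ fun b _ => hv b (mem_top b)

theorem C_le [Finite L] : fx V (⊤ : Subgroup L) ≤ fx V Q ⊓ F := le_inf (fx_mono le_top) h.C_le_F

theorem z_mem [Finite L] : z ∈ fx V Q ⊓ F :=
  ⟨fun q hq => h.zR q (h.Q_le_R hq), h.mem.CB _ fun b hb => h.zR b (h.AR hb)⟩

theorem z_not : z ∉ fx V (⊤ : Subgroup L) := by
  intro hz
  obtain ⟨l, hl⟩ := h.zL
  exact hl (hz l (mem_top l))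

theorem smul_X (g : L) {x : V} (hx : x ∈ fx V Q) : g • x ∈ fx V Q := fx_inv h.Qn g hx

theorem mem_C_of [Finite L] {x y : L} (hx : x⁻¹ * y ∉ L₁) {v : V} (h1 : v ∈ x • (fx V Q ⊓ F))
    (h2 : v ∈ y • (fx V Q ⊓ F)) : v ∈ fx V (⊤ : Subgroup L) :=
  h.fix_all hx (mem_smul_as.1 h1).2 (mem_smul_as.1 h2).2

theorem mem_C_of_F [Finite L] {g : L} (hg : g ∉ L₁) {v : V} (h1 : v ∈ g • (fx V Q ⊓ F)) (h2 : v ∈ F) :
    v ∈ fx V (⊤ : Subgroup L) :=
  h.fix_all (x := 1) (y := g) (by simpa using hg) (by simpa using h2) (mem_smul_as.1 h1).2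

theorem mem_X_of {g : L} {v : V} (h1 : v ∈ g • (fx V Q ⊓ F)) : v ∈ fx V Q := by
  have := h.smul_X g (mem_smul_as.1 h1).1
  rwa [smul_inv_smul] at this

/-- (e) -/
theorem mem_of_comm [Finite L] {g a : L} {v : V} (hv : v ∈ g • (fx V Q ⊓ F))
    (hvC : v ∉ fx V (⊤ : Subgroup L)) (ha : a • v + v ∈ fx V (⊤ : Subgroup L)) : a ∈ MulAut.conj g • L₁ := by
  by_contra hn
  rw [mem_conj] at hn
  have h1 := h.stab_le (x := g) (v := v) (mem_smul_as.1 hv).2 hvC
  have h3 : g⁻¹ * (a * g) ∉ L₁ := by rwa [← mul_assoc]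
  have h4 := h.top_of' h3
  have h5 : MulAut.conj (a * g) • A ≤ MulAction.stabilizer L (a • v) := by
    rw [stab_le_iff h.mem]
    have e : (a * g)⁻¹ • a • v = g⁻¹ • v := by
      rw [← mul_smul]; congr 1; group
    rw [e]
    exact (mem_smul_as.1 hv).2
  have h6 : MulAction.stabilizer L (a • v) ≤ MulAction.stabilizer L v := by
    intro l hl
    rw [MulAction.mem_stabilizer_iff] at hl ⊢
    set c := a • v + v with hc
    have e : a • v = v + c := by
      rw [hc, add_comm (a • v) v, ← add_assoc, h.two, zero_add]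
    rw [e, smul_add, smul_add_top ha] at hl
    exact add_right_cancel hl
  apply h.ne
  apply conj_eq_top (g := g)
  rw [eq_top_iff, ← h4]
  exact sup_le (conj_le_conj g h.A_le) ((h5.trans h6).trans h1)

section beta

variable [Finite L] [Finite V] (hβ : ∀ g ∉ L₁, ∀ x ∈ fx V Q ⊓ F, g • x ∈ E)
include hβ

theorem memE {g : L} (hg : g ∉ L₁) {v : V} (hv : v ∈ g • (fx V Q ⊓ F)) : v ∈ E := by
  have := hβ g hg _ (mem_smul_as.1 hv)
  rwa [smul_inv_smul] at this

theorem comm_mem {g : L} (hg : g ∉ L₁) {v : V} (hv : v ∈ g • (fx V Q ⊓ F)) {a : L} (ha : a ∈ A) :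
    a • v + v ∈ fx V Q ⊓ F :=
  ⟨(fx V Q).add_mem (h.smul_X a (h.mem_X_of hv)) (h.mem_X_of hv), h.mem.EB a ha v (h.memE hβ hg hv)⟩

/-- `X' = X₁ + g X₁` is `L`-invariant -/
theorem smul_X' {g : L} (hg : g ∉ L₁) (l : L) :
    l • (fx V Q ⊓ F ⊔ g • (fx V Q ⊓ F)) = fx V Q ⊓ F ⊔ g • (fx V Q ⊓ F) := by
  set X' := fx V Q ⊓ F ⊔ g • (fx V Q ⊓ F) with hX'
  have key : ∀ a : L, (∀ v ∈ X', a • v ∈ X') → a ∈ MulAction.stabilizer L X' := by
    intro a ha
    rw [MulAction.mem_stabilizer_iff]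
    apply eq_of_le_as
    · intro v hv
      have := ha _ (mem_smul_as.1 hv)
      rwa [smul_inv_smul] at this
    · exact (card_smul_as a X').ge
  have h1 : A ≤ MulAction.stabilizer L X' := by
    intro a ha
    apply key
    intro v hv
    rw [hX', AddSubgroup.mem_sup] at hv
    obtain ⟨x, hx, y, hy, rfl⟩ := hv
    rw [smul_add, h.mem.FB a ha x hx.2]
    have e : a • y = a • y + y + y := by rw [add_assoc, h.two, add_zero]
    rw [e]
    exact X'.add_mem (AddSubgroup.mem_sup_left hx)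
      (X'.add_mem (AddSubgroup.mem_sup_left (h.comm_mem hβ hg hy ha)) (AddSubgroup.mem_sup_right hy))
  have h2 : MulAut.conj g • A ≤ MulAction.stabilizer L X' := by
    intro b hb
    rw [mem_conj] at hb
    apply key
    intro v hv
    rw [hX', AddSubgroup.mem_sup] at hv
    obtain ⟨x, hx, y, hy, rfl⟩ := hv
    have hg' : g⁻¹ ∉ L₁ := fun h3 => hg (by simpa using inv_mem h3)
    have hx' : g⁻¹ • x ∈ g⁻¹ • (fx V Q ⊓ F) := smul_mem_smul_as hx
    have h3 := h.comm_mem hβ hg' hx' hb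
    have h4 : b • x + x ∈ g • (fx V Q ⊓ F) := by
      rw [mem_smul_as, smul_add]
      rw [mul_smul, mul_smul, smul_inv_smul] at h3
      exact h3
    have h5 : b • y = y := by
      have h6 := h.mem.FB _ hb _ (mem_smul_as.1 hy).2
      rw [mul_smul, mul_smul, smul_inv_smul, smul_left_cancel_iff] at h6
      exact h6
    rw [smul_add, h5]
    have e : b • x = b • x + x + x := by rw [add_assoc, h.two, add_zero]
    rw [e]
    exact X'.add_mem (X'.add_mem (AddSubgroup.mem_sup_right h4) (AddSubgroup.mem_sup_left hx))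
      (AddSubgroup.mem_sup_right hy)
  have h3 : (⊤ : Subgroup L) ≤ MulAction.stabilizer L X' := by
    rw [← h.top_of hg]
    exact sup_le h1 h2
  exact h3 (mem_top l)

theorem X'_eq {g k : L} (hg : g ∉ L₁) (hk : k ∉ L₁) :
    fx V Q ⊓ F ⊔ g • (fx V Q ⊓ F) = fx V Q ⊓ F ⊔ k • (fx V Q ⊓ F) := by
  have key : ∀ {g k : L}, g ∉ L₁ → fx V Q ⊓ F ⊔ k • (fx V Q ⊓ F) ≤ fx V Q ⊓ F ⊔ g • (fx V Q ⊓ F) := by
    intro g k hg
    refine sup_le le_sup_left ?_
    rw [← h.smul_X' hβ hg k]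
    intro v hv
    rw [mem_smul_as] at hv ⊢
    exact AddSubgroup.mem_sup_left hv
  exact le_antisymm (key hk) (key hg)

/-- (f) -/
theorem mem_F_of_comm {a : L} (ha : a ∈ A) (haQ : a ∉ Q) {g : L} (hg : g ∉ L₁) {x : V}
    (hx : x ∈ fx V Q ⊓ F ⊔ g • (fx V Q ⊓ F)) (hc : a • x + x ∈ fx V (⊤ : Subgroup L)) : x ∈ fx V Q ⊓ F := by
  obtain ⟨k, hk⟩ := h.exists_not_mem ha haQ
  have hkL : k ∉ L₁ := by
    intro h1
    apply hk
    rw [mem_conj]
    exact mul_mem (mul_mem (inv_mem h1) (h.A_le ha)) h1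
  rw [h.X'_eq hβ hg hkL, AddSubgroup.mem_sup] at hx
  obtain ⟨x1, hx1, v, hv, rfl⟩ := hx
  have h1 : a • v + v ∈ fx V (⊤ : Subgroup L) := by
    have e : a • (x1 + v) + (x1 + v) = a • v + v + (x1 + x1) := by
      rw [smul_add, h.mem.FB a ha x1 hx1.2]; abel
    rw [e, h.two, add_zero] at hc
    exact hc
  have h2 : v ∈ fx V (⊤ : Subgroup L) := by
    by_contra h3
    exact hk (h.mem_of_comm hv h3 h1)
  exact (fx V Q ⊓ F).add_mem hx1 (h.C_le h2)

/-- (g) `A ∩ L₁^g ≤ Q` -/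
theorem cap_le {g : L} (hg : g ∉ L₁) {d : L} (hd : d ∈ A) (hdg : d ∈ MulAut.conj g • L₁) : d ∈ Q := by
  by_contra hdQ
  have hP : ((g • R : Sylow 2 L) : Subgroup L) ≤ MulAut.conj g • L₁ := by
    intro y hy
    have hy' : y ∈ g • R := hy
    rw [HE.mem_smul_sylow] at hy'
    rw [mem_conj]
    exact h.R_le hy'
  obtain ⟨k, hk, hk2⟩ := sylow_conj (g • R) hP (isPGroup_zpowers_of_sq (h.mem.sq d hd))
    (zpowers_le.2 hdg)
  have h1 := hk2 d (mem_zpowers d)
  rw [HE.mem_smul_sylow] at h1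
  set y := k * g with hy
  have hyL : y ∉ L₁ := by
    rw [mem_conj] at hk
    intro h2
    apply hg
    have e : g = y * (g⁻¹ * k * g)⁻¹ := by rw [hy]; group
    rw [e]
    exact mul_mem h2 (inv_mem hk)
  have hdR : d ∈ ((y • R : Sylow 2 L) : Subgroup L) := by
    change d ∈ y • R
    rw [HE.mem_smul_sylow]
    have e : y⁻¹ * d * y = g⁻¹ * (k⁻¹ * d * k) * g := by rw [hy]; group
    rwa [e]
  -- fixed vector modulo `C`
  obtain ⟨x, hx, hxC, hxR⟩ := exists_fixed_mod h.two (y • R).2 (fx V Q ⊓ F ⊔ g • (fx V Q ⊓ F))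
    (fx V (⊤ : Subgroup L))
    (by
      intro r _ w hw
      rw [← h.smul_X' hβ hg r]
      exact smul_mem_smul_as hw)
    (by
      intro r _ w hw
      rwa [smul_add_top hw])
    ⟨z, AddSubgroup.mem_sup_left h.z_mem, h.z_not⟩
  have h2 := h.mem_F_of_comm hβ hd hdQ hg hx (hxR d hdR)
  obtain ⟨a, ha, haQ⟩ := Set.not_subset.1 h.not_A_le
  have h3 : y * a * y⁻¹ ∈ ((y • R : Sylow 2 L) : Subgroup L) := by
    change y * a * y⁻¹ ∈ y • R
    rw [HE.mem_smul_sylow]
    have e : y⁻¹ * (y * a * y⁻¹) * y = a := by group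
    rw [e]
    exact h.AR ha
  have h4 := hxR _ h3
  have h5 : a • (y⁻¹ • x) + y⁻¹ • x ∈ fx V (⊤ : Subgroup L) := by
    have e : a • (y⁻¹ • x) + y⁻¹ • x = y⁻¹ • ((y * a * y⁻¹) • x + x) := by
      rw [smul_add, mul_smul, mul_smul, inv_smul_smul]
    rw [e, smul_add_top h4]
    exact h4
  have h6 : y⁻¹ • x ∈ fx V Q ⊓ F ⊔ g • (fx V Q ⊓ F) := by
    rw [← h.smul_X' hβ hg y⁻¹]
    exact smul_mem_smul_as hx
  have h7 := h.mem_F_of_comm hβ ha haQ hg h6 h5
  exact hxC (h.mem_C_of_F hyL (mem_smul_as.2 h7) h2.2)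

/-- (h) -/
theorem cen_le {g : L} (hg : g ∉ L₁) {x : V} (hx : x ∈ g • (fx V Q ⊓ F)) (hxC : x ∉ fx V (⊤ : Subgroup L))
    {a : L} (ha : a ∈ A) (hc : a • x + x ∈ fx V (⊤ : Subgroup L)) : a ∈ Q :=
  h.cap_le hβ hg ha (h.mem_of_comm hx hxC hc)

/-- (i1): `[v, A]`, `v ∈ g X₁ - C` : `|X₁| ≥ |A / A ∩ Q||C|`; the image of `a ↦ [v, a]` -/
theorem exists_img {g : L} (hg : g ∉ L₁) {v : V} (hv : v ∈ g • (fx V Q ⊓ F)) (hvC : v ∉ fx V (⊤ : Subgroup L)) :
    ∃ I : AddSubgroup V, (∀ x, x ∈ I ↔ ∃ a ∈ A, a • v + v = x) ∧ I ≤ fx V Q ⊓ F ∧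
      I ⊓ fx V (⊤ : Subgroup L) = ⊥ ∧ Nat.card I * Nat.card ↥(A ⊓ Q) = Nat.card A := by
  let φ : Additive A →+ V :=
    { toFun := fun a => ((Additive.toMul a : A) : L) • v + v
      map_zero' := by
        change (1 : L) • v + v = 0
        rw [one_smul, h.two]
      map_add' := fun a b => by
        exact h.mem.add_of h.two (h.memE hβ hg hv) (Additive.toMul a : A).2 (Additive.toMul b : A).2 }
  refine ⟨φ.range, ?_, ?_, ?_, ?_⟩
  · intro x
    constructor
    · rintro ⟨a, rfl⟩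
      exact ⟨_, (Additive.toMul a : A).2, rfl⟩
    · rintro ⟨a, ha, rfl⟩
      exact ⟨Additive.ofMul ⟨a, ha⟩, rfl⟩
  · rintro _ ⟨a, rfl⟩
    exact h.comm_mem hβ hg hv (Additive.toMul a : A).2
  · rw [eq_bot_iff]
    rintro _ ⟨⟨a, rfl⟩, hc⟩
    have h1 := h.cen_le hβ hg hv hvC (Additive.toMul a : A).2 hc
    have h2 : ((Additive.toMul a : A) : L) • v = v := h.mem_X_of hv _ h1
    change ((Additive.toMul a : A) : L) • v + v = 0
    rw [h2, h.two]
  · have h1 : Nat.card ↥(A ⊓ Q) = Nat.card φ.ker := by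
      apply Nat.card_congr
      exact
        { toFun := fun a => ⟨Additive.ofMul ⟨a, a.2.1⟩, by
            change (a : L) • v + v = 0
            rw [h.mem_X_of hv _ a.2.2, h.two]⟩
          invFun := fun a => ⟨((Additive.toMul (a : Additive A) : A) : L), (Additive.toMul (a : Additive A) : A).2,
            h.cen_le hβ hg hv hvC (Additive.toMul (a : Additive A) : A).2 (by
              have h3 : ((Additive.toMul (a : Additive A) : A) : L) • v + v = 0 := a.2
              rw [h3]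
              exact AddSubgroup.zero_mem _)⟩
          left_inv := fun a => rfl
          right_inv := fun a => rfl }
    rw [h1]
    have h2 := AddSubgroup.card_mul_index φ.ker
    rw [AddSubgroup.index_ker] at h2
    rw [mul_comm]
    exact h2

theorem exists_out : ∃ g : L, g ∉ L₁ := by
  by_contra hc
  push Not at hc
  exact h.ne (eq_top_iff.2 fun g _ => hc g)

theorem out_vec {g : L} : g • z ∈ g • (fx V Q ⊓ F) ∧ g • z ∉ fx V (⊤ : Subgroup L) := by
  refine ⟨smul_mem_smul_as h.z_mem, fun h1 => h.z_not ?_⟩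
  have h2 : g⁻¹ • g • z = g • z := smul_add_top h1
  rw [inv_smul_smul] at h2
  rw [h2]; exact h1

theorem ne_bot : A ⊓ Q ≠ ⊥ := by
  obtain ⟨g, hg⟩ := h.exists_out hβ
  obtain ⟨hx, hxC⟩ := h.out_vec hβ (g := g)
  obtain ⟨w, hw⟩ := h.mem.ne
  obtain ⟨s, hs, h1⟩ := h.mem.surj w hw _ (h.memE hβ hg hx)
  have hs1 : s ≠ 1 := by
    rintro rfl
    rw [one_smul, h.two, zero_add] at h1
    exact hxC (h.mem_C_of_F hg hx h1)
  have h2 := h.mem.FB s hs _ h1
  have h3 : s • (g • z) = g • z := by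
    rw [smul_add, smul_add, ← mul_smul, h.mem.sq s hs, one_smul, add_comm w (s • w)] at h2
    exact add_left_cancel h2
  have h4 := h.cen_le hβ hg hx hxC hs (by rw [h3, h.two]; exact AddSubgroup.zero_mem _)
  intro h5
  apply hs1
  have : s ∈ A ⊓ Q := ⟨hs, h4⟩
  rw [h5] at this
  exact this

theorem fx_le_E : fx V (A ⊓ Q) ≤ E := by
  intro v hv
  by_contra hvE
  apply h.ne_bot hβ
  rw [eq_bot_iff]
  intro b hb
  have h1 := h.mem.inj v hvE b hb.1 (by rw [hv b hb, h.two]; exact F.zero_mem)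
  rw [h1]; exact one_mem _

/-- the count -/
theorem count {g : L} (hg : g ∉ L₁) :
    Nat.card ↥(fx V Q ⊓ F) * Nat.card ↥(A ⊓ Q) = Nat.card ↥(fx V (⊤ : Subgroup L)) * Nat.card A ∧
      fx V (A ⊓ Q) = g • (fx V Q ⊓ F) ⊔ F := by
  set X₁ := fx V Q ⊓ F with hX₁
  set C := fx V (⊤ : Subgroup L) with hC
  obtain ⟨hv, hvC⟩ := h.out_vec hβ (g := g)
  obtain ⟨I, -, hI1, hI2, hI3⟩ := h.exists_img hβ hg hv hvC
  have h1 := card_sup_as I C
  rw [hI2] at h1
  have h2 : Nat.card ↥(I ⊔ C) ≤ Nat.card X₁ :=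
    Nat.card_le_card_of_injective _ (AddSubgroup.inclusion_injective (sup_le hI1 h.C_le))
  have hb1 : Nat.card (⊥ : AddSubgroup V) = 1 := AddSubgroup.card_bot
  rw [hb1, mul_one] at h1
  -- lower bound
  have h3 : Nat.card C * Nat.card A ≤ Nat.card X₁ * Nat.card ↥(A ⊓ Q) := by
    rw [← hI3]
    calc Nat.card C * (Nat.card I * Nat.card ↥(A ⊓ Q)) = Nat.card I * Nat.card C * Nat.card ↥(A ⊓ Q) := by ring
      _ = Nat.card ↥(I ⊔ C) * Nat.card ↥(A ⊓ Q) := by rw [h1]
      _ ≤ _ := Nat.mul_le_mul_right _ h2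
  -- upper bound
  have h4 := h.mu (A ⊓ Q) inf_le_left
  rw [h.mem.card_E h.two] at h4
  have h5 : g • X₁ ⊔ F ≤ fx V (A ⊓ Q) ⊓ E := by
    refine sup_le (le_inf ?_ fun v hv => h.memE hβ hg hv) (le_inf ?_ h.mem.FE)
    · intro v hv b hb
      exact h.mem_X_of hv b hb.2
    · intro f hf b hb
      exact h.mem.FB b hb.1 f hf
  have h6 := card_sup_as (g • X₁) F
  have h7 : g • X₁ ⊓ F = C := by
    apply le_antisymm
    · rintro v ⟨hv1, hv2⟩
      exact h.mem_C_of_F hg hv1 hv2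
    · intro v hv
      have h8 : v ∈ g • X₁ := by
        rw [mem_smul_as, smul_add_top hv]
        exact h.C_le hv
      exact ⟨h8, h.C_le_F hv⟩
  rw [h7, card_smul_as] at h6
  have h8 : Nat.card ↥(g • X₁ ⊔ F) ≤ Nat.card ↥(fx V (A ⊓ Q) ⊓ E) :=
    Nat.card_le_card_of_injective _ (AddSubgroup.inclusion_injective h5)
  have hF0 : 0 < Nat.card F := Nat.card_pos
  have hC0 : 0 < Nat.card C := Nat.card_pos
  have hB0 : 0 < Nat.card ↥(A ⊓ Q) := Nat.card_pos
  have h9 : Nat.card X₁ * Nat.card ↥(A ⊓ Q) ≤ Nat.card C * Nat.card A := by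
    apply Nat.le_of_mul_le_mul_left _ hF0
    calc Nat.card F * (Nat.card X₁ * Nat.card ↥(A ⊓ Q)) = Nat.card ↥(A ⊓ Q) * (Nat.card X₁ * Nat.card F) := by ring
      _ = Nat.card ↥(A ⊓ Q) * (Nat.card ↥(g • X₁ ⊔ F) * Nat.card C) := by rw [h6]
      _ ≤ Nat.card ↥(A ⊓ Q) * (Nat.card ↥(fx V (A ⊓ Q) ⊓ E) * Nat.card C) :=
        Nat.mul_le_mul_left _ (Nat.mul_le_mul_right _ h8)
      _ = Nat.card ↥(A ⊓ Q) * Nat.card ↥(fx V (A ⊓ Q) ⊓ E) * Nat.card C := by ring
      _ ≤ Nat.card F * Nat.card A * Nat.card C := Nat.mul_le_mul_right _ h4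
      _ = _ := by ring
  have h10 := le_antisymm h9 h3
  refine ⟨h10, ?_⟩
  have h11 : g • X₁ ⊔ F = fx V (A ⊓ Q) ⊓ E := by
    apply eq_of_le_as h5
    apply Nat.le_of_mul_le_mul_left _ (Nat.mul_pos hB0 hC0)
    calc Nat.card ↥(A ⊓ Q) * Nat.card C * Nat.card ↥(fx V (A ⊓ Q) ⊓ E) =
          Nat.card ↥(A ⊓ Q) * Nat.card ↥(fx V (A ⊓ Q) ⊓ E) * Nat.card C := by ring
      _ ≤ Nat.card F * Nat.card A * Nat.card C := Nat.mul_le_mul_right _ h4
      _ = Nat.card F * (Nat.card C * Nat.card A) := by ring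
      _ = Nat.card F * (Nat.card X₁ * Nat.card ↥(A ⊓ Q)) := by rw [h10]
      _ = Nat.card ↥(A ⊓ Q) * (Nat.card X₁ * Nat.card F) := by ring
      _ = Nat.card ↥(A ⊓ Q) * (Nat.card ↥(g • X₁ ⊔ F) * Nat.card C) := by rw [h6]
      _ = _ := by ring
  rw [h11]
  exact (inf_eq_left.2 (h.fx_le_E hβ)).symm

theorem X_eq {g : L} (hg : g ∉ L₁) : fx V Q = fx V Q ⊓ F ⊔ g • (fx V Q ⊓ F) := by
  apply le_antisymm
  · intro x hx
    have h1 : x ∈ fx V (A ⊓ Q) := fun b hb => hx b hb.2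
    rw [(h.count hβ hg).2, AddSubgroup.mem_sup] at h1
    obtain ⟨y, hy, f, hf, rfl⟩ := h1
    have h2 : f ∈ fx V Q := by
      have := (fx V Q).sub_mem hx (h.mem_X_of hy)
      rwa [add_sub_cancel_left] at this
    rw [add_comm]
    exact AddSubgroup.add_mem _ (AddSubgroup.mem_sup_left ⟨h2, hf⟩) (AddSubgroup.mem_sup_right hy)
  · exact sup_le inf_le_left fun v hv => h.mem_X_of hv

/-- transitivity: `[v, A] + C = X₁` -/
theorem full {g : L} (hg : g ∉ L₁) {v : V} (hv : v ∈ g • (fx V Q ⊓ F)) (hvC : v ∉ fx V (⊤ : Subgroup L)) {x : V}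
    (hx : x ∈ fx V Q ⊓ F) : ∃ a ∈ A, ∃ c ∈ fx V (⊤ : Subgroup L), a • v + v = x + c := by
  obtain ⟨I, hI0, hI1, hI2, hI3⟩ := h.exists_img hβ hg hv hvC
  have h1 := card_sup_as I (fx V (⊤ : Subgroup L))
  have hb1 : Nat.card (⊥ : AddSubgroup V) = 1 := AddSubgroup.card_bot
  rw [hI2, hb1, mul_one] at h1
  have h2 : I ⊔ fx V (⊤ : Subgroup L) = fx V Q ⊓ F := by
    apply eq_of_le_as (sup_le hI1 h.C_le)
    have hB0 : 0 < Nat.card ↥(A ⊓ Q) := Nat.card_pos
    apply Nat.le_of_mul_le_mul_right _ hB0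
    rw [(h.count hβ hg).1, h1, ← hI3]
    apply le_of_eq
    ring
  rw [← h2, AddSubgroup.mem_sup] at hx
  obtain ⟨i, hi, c, hc, rfl⟩ := hx
  obtain ⟨a, ha, rfl⟩ := (hI0 i).1 hi
  exact ⟨a, ha, c, hc, by rw [add_assoc, h.two, add_zero]⟩

/-- (j) -/
theorem cov {g : L} (hg : g ∉ L₁) {x : V} (hx : x ∈ fx V Q) (hxF : x ∉ F) :
    ∃ a ∈ A, x ∈ (a * g) • (fx V Q ⊓ F) := by
  have h1 := hx
  rw [h.X_eq hβ hg, AddSubgroup.mem_sup] at h1
  obtain ⟨x1, hx1, v, hv, rfl⟩ := h1
  have hvC : v ∉ fx V (⊤ : Subgroup L) := fun h2 => hxF (F.add_mem hx1.2 (h.C_le_F h2))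
  obtain ⟨a, ha, c, hc, h3⟩ := h.full hβ hg hv hvC hx1
  refine ⟨a, ha, ?_⟩
  have e : x1 + v = a • v + c := by
    have : a • v + v + (v + c) = x1 + c + (v + c) := by rw [h3]
    have e1 : a • v + v + (v + c) = a • v + c + (v + v) := by abel
    have e2 : x1 + c + (v + c) = x1 + v + (c + c) := by abel
    rw [e1, e2, h.two, h.two, add_zero, add_zero] at this
    exact this.symm
  rw [e, mul_smul]
  refine AddSubgroup.add_mem _ (smul_mem_smul_as hv) ?_
  rw [mem_smul_as, mem_smul_as, smul_add_top hc, smul_add_top hc]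
  exact h.C_le hc

theorem A_mul_out {g a : L} (hg : g ∉ L₁) (ha : a ∈ A) : a * g ∉ L₁ := by
  intro h1
  apply hg
  have e : g = a⁻¹ * (a * g) := by group
  rw [e]
  exact mul_mem (inv_mem (h.A_le ha)) h1

/-- (k) -/
theorem inv {l : L} (hl : l ∈ L₁) : l • (fx V Q ⊓ F) = fx V Q ⊓ F := by
  have key : ∀ l ∈ L₁, ∀ x ∈ fx V Q ⊓ F, l • x ∈ fx V Q ⊓ F := by
    intro l hl x hx
    refine ⟨h.smul_X l hx.1, ?_⟩
    by_contra hF
    obtain ⟨g, hg⟩ := h.exists_out hβ
    obtain ⟨a, ha, h1⟩ := h.cov hβ hg (h.smul_X l hx.1) hF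
    have h2 := h.A_mul_out hβ hg ha
    have h3 : l⁻¹ * (a * g) ∉ L₁ := by
      intro h4
      apply h2
      have e : a * g = l * (l⁻¹ * (a * g)) := by group
      rw [e]
      exact mul_mem hl h4
    have h4 := h.mem_C_of h3 (smul_mem_smul_as hx) h1
    exact hF (h.C_le_F h4)
  ext v
  rw [mem_smul_as]
  constructor
  · intro h1
    have := key l hl _ h1
    rwa [smul_inv_smul] at this
  · exact fun h1 => key l⁻¹ (inv_mem hl) v h1

/-- (l) -/
theorem tra {g k : L} (hg : g ∉ L₁) (hk : k ∉ L₁) : ∃ a ∈ A, (a * g)⁻¹ * k ∈ L₁ := by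
  obtain ⟨hv, hvC⟩ := h.out_vec hβ (g := k)
  have hvF : k • z ∉ F := fun h1 => hvC (h.mem_C_of_F hk hv h1)
  obtain ⟨a, ha, h1⟩ := h.cov hβ hg (h.mem_X_of hv) hvF
  refine ⟨a, ha, ?_⟩
  by_contra h2
  exact hvC (h.mem_C_of h2 h1 hv)

/-- **Case BETA.** -/
theorem beta : Beta A E F (fx V Q) Q L₁ where
  XE := fun x hx => h.fx_le_E hβ fun b hb => hx b hb.2
  sup := fun g hg => h.X_eq hβ hg
  cap := fun g hg a ha hag => h.cap_le hβ hg ha hag
  cen := fun x hx hxF a ha hax => by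
    obtain ⟨g, hg⟩ := h.exists_out hβ
    obtain ⟨b, hb, h1⟩ := h.cov hβ hg hx hxF
    exact h.cen_le hβ (h.A_mul_out hβ hg hb) h1 (fun h2 => hxF (h.C_le_F h2)) ha
      (by rw [hax, h.two]; exact AddSubgroup.zero_mem _)
  cov := fun g hg x hx hxF => h.cov hβ hg hx hxF
  inv := fun g hg => h.inv hβ hg
  tra := fun g hg k hk => h.tra hβ hg hk
  card := by
    obtain ⟨g, hg⟩ := h.exists_out hβ
    exact (h.count hβ hg).1
  CVB := by
    obtain ⟨g, hg⟩ := h.exists_out hβ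
    rw [(h.count hβ hg).2]
    apply le_antisymm
    · exact sup_le (fun v hv => AddSubgroup.mem_sup_left (h.mem_X_of hv)) le_sup_right
    · refine sup_le ?_ le_sup_right
      conv_lhs => rw [h.X_eq hβ hg]
      exact sup_le (inf_le_right.trans le_sup_right) le_sup_left
  ne := h.ne_bot hβ
  cc := fun a ha haQ x hx hc => by
    obtain ⟨g, hg⟩ := h.exists_out hβ
    rw [h.X_eq hβ hg] at hx
    exact (h.mem_F_of_comm hβ ha haQ hg hx hc).2
  full := fun v hv hvF x hx => by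
    obtain ⟨g, hg⟩ := h.exists_out hβ
    obtain ⟨b, hb, h1⟩ := h.cov hβ hg hv hvF
    exact h.full hβ (h.A_mul_out hβ hg hb) h1 (fun h2 => hvF (h.C_le_F h2)) hx

end beta

end Loc

namespace Beta

variable {A : Subgroup L} {E F : AddSubgroup V} {Q L₁ : Subgroup L} {X : AddSubgroup V}

/-- `S₁ = B₁^⊥ ≤ B₁`, `s^⊥ = B₁` for `s ∈ S₁#` -/
theorem perp (h : Beta A E F X Q L₁) (hm : Mem A E F) (hXQ : X ≤ fx V Q) {w : V}
    (hw : w ∉ E) {s : L} (hs : s ∈ A) (hs1 : s ≠ 1) (hsX : s • w + w ∈ X ⊔ F) {t : L} (ht : t ∈ A) :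
    t • (s • w + w) = s • w + w ↔ t ∈ Q := by
  rw [AddSubgroup.mem_sup] at hsX
  obtain ⟨x, hx, f, hf, he⟩ := hsX
  have hxF : x ∉ F := fun h3 => hs1 (hm.inj w hw s hs (by rw [← he]; exact F.add_mem h3 hf))
  rw [← he, smul_add, hm.FB t ht f hf]
  constructor
  · intro h3
    exact h.cen x hx hxF t ht (add_right_cancel h3)
  · intro h3
    rw [hXQ hx t h3]

theorem perp_mem (h : Beta A E F X Q L₁) (hm : Mem A E F) (hXQ : X ≤ fx V Q) {w : V}
    (hw : w ∉ E) {s : L} (hs : s ∈ A) (hsX : s • w + w ∈ X ⊔ F) : s ∈ Q := by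
  by_cases hs1 : s = 1
  · rw [hs1]; exact one_mem _
  · rw [← h.perp hm hXQ hw hs hs1 hsX hs, smul_add, ← mul_smul, hm.sq s hs, one_smul, add_comm]

end Beta

end Cfsg.Agent.Omega.NO1.AB

end

section


/-!
# N1, BETA: the choice of `H` with `|T_H|` maximal (bb OMEGA 19584 (1), helper874)

`Amb U T M` : `U` a class of members of `Y`, `T` a Sylow 2-subgroup of `Y`, `M` the unique maximal subgroup over
`T`, `O₂(Y) = 1`, `V` irreducible and faithful.
`Amal U T M H R t` : `H < Y` lies in no point, contains a member, `R ∈ Syl₂(H)`, `R < T`, `R` of maximal order,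
`H ∩ M` is the unique maximal subgroup of `H` over `R`, `t ∈ N_T(R) - R`, `t² ∈ R`, `Y = ⟨H, t⟩`.
-/

set_option autoImplicit false
set_option linter.unusedSectionVars false

namespace Cfsg.Agent.Omega.NO1.TH

open Subgroup Cfsg.Agent.Omega.NO1.AB
open scoped Pointwise

universe u

variable {Y : Type u} [Group Y] {V : Type u} [AddCommGroup V] [DistribMulAction Y V]

/-- The module-level setting of CARD N1-ONE (the part which is used here). -/
structure Amb (V : Type u) [AddCommGroup V] [DistribMulAction Y V] (U : Set (Subgroup Y)) (T : Sylow 2 Y)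
    (M : Subgroup Y) : Prop where
  cls : Cls V U
  TM : (T : Subgroup Y) ≤ M
  Mne : M ≠ ⊤
  max : ∀ K : Subgroup Y, (T : Subgroup Y) ≤ K → K ≠ ⊤ → K ≤ M
  core : ∀ N : Subgroup Y, N.Normal → IsPGroup 2 N → N = ⊥
  /-- no invariant submodule `≠ 0` in `E_B` (weak irreducibility, inherited by the `H` with `W ≰ E_B`, #21227) -/
  irr : ∀ W : AddSubgroup V, (∀ y : Y, ∀ w ∈ W, y • w ∈ W) → W = ⊥ ∨ ∀ B ∈ U, ¬ W ≤ Ee V B
  faith : ∀ y : Y, (∀ v : V, y • v = v) → y = 1

/-- `H` contains a member and lies in no point. -/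
structure Bad (U : Set (Subgroup Y)) (M H : Subgroup Y) : Prop where
  ne : H ≠ ⊤
  mem : ∃ B ∈ U, B ≤ H
  not_le : ∀ y : Y, ¬ H ≤ MulAut.conj y • M

/-- The output of the choice. -/
structure Amal (U : Set (Subgroup Y)) (T : Sylow 2 Y) (M H R : Subgroup Y) (t : Y) : Prop where
  bad : Bad U M H
  RH : R ≤ H
  RT : R ≤ (T : Subgroup Y)
  memR : ∃ B ∈ U, B ≤ R
  /-- `|R|` is maximal -/
  le_card : ∀ X : Subgroup Y, Bad U M X → ∀ R' ≤ X, IsPGroup 2 R' → Nat.card R' ≤ Nat.card R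
  /-- a 2-group with a member of order `≥ |R|` lies in one point only -/
  one : ∀ R' : Subgroup Y, IsPGroup 2 R' → (∃ B ∈ U, B ≤ R') → Nat.card R ≤ Nat.card R' →
    ∀ x y : Y, R' ≤ MulAut.conj x • M → R' ≤ MulAut.conj y • M → MulAut.conj x • M = MulAut.conj y • M
  uniq : ∀ X : Subgroup Y, R ≤ X → X < H → X ≤ M
  t_T : t ∈ T
  t_not : t ∉ R
  t_sq : t * t ∈ R
  t_norm : ∀ r ∈ R, t * r * t⁻¹ ∈ R
  top : H ⊔ zpowers t = ⊤

theorem Mem.ne_bot {A : Subgroup Y} {E F : AddSubgroup V} (h : Mem A E F) : A ≠ ⊥ := by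
  rintro rfl
  obtain ⟨v, hv⟩ := h.ne
  apply hv
  apply h.FE
  apply h.CB
  intro b hb
  rw [mem_bot] at hb
  rw [hb, one_smul]

theorem conj_card (y : Y) (H : Subgroup Y) : Nat.card ↥(MulAut.conj y • H) = Nat.card H :=
  (Nat.card_congr (Subgroup.equivSMul (MulAut.conj y) H).toEquiv).symm

theorem conj_inv_smul (y : Y) (H : Subgroup Y) : MulAut.conj y • MulAut.conj y⁻¹ • H = H := by
  rw [conj_smul_smul, mul_inv_cancel, map_one, one_smul]

theorem conj_inv_smul' (y : Y) (H : Subgroup Y) : MulAut.conj y⁻¹ • MulAut.conj y • H = H := by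
  rw [conj_smul_smul, inv_mul_cancel, map_one, one_smul]

theorem conj_isPGroup {y : Y} {H : Subgroup Y} (h : IsPGroup 2 H) : IsPGroup 2 ↥(MulAut.conj y • H) :=
  h.of_equiv (Subgroup.equivSMul (MulAut.conj y) H)

theorem conj_normal {y : Y} {H : Subgroup Y} (h : (MulAut.conj y • H).Normal) : H.Normal := by
  refine ⟨fun n hn g => ?_⟩
  have h1 := h.conj_mem _ (conj_mem_conj (g := y) hn) (y * g * y⁻¹)
  rw [mem_conj] at h1
  have e : y⁻¹ * (y * g * y⁻¹ * (y * n * y⁻¹) * (y * g * y⁻¹)⁻¹) * y = g * n * g⁻¹ := by group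
  rwa [e] at h1

theorem mem_of_bad {U : Set (Subgroup Y)} (hc : Cls V U) {R : Subgroup Y} (hR : ∃ B ∈ U, B ≤ R) : R ≠ ⊥ := by
  rintro rfl
  obtain ⟨B, hB, hle⟩ := hR
  exact Mem.ne_bot (hc.mem B hB) (le_bot_iff.1 hle)

theorem exists_conj_mem {U : Set (Subgroup Y)} (hc : Cls V U) {X : Subgroup Y} (hX : ∃ B ∈ U, B ≤ X) (y : Y) :
    ∃ B ∈ U, B ≤ MulAut.conj y • X := by
  obtain ⟨B, hB, hle⟩ := hX
  exact ⟨_, hc.conj B hB y, conj_le_conj y hle⟩

theorem Bad.conj {U : Set (Subgroup Y)} {M H : Subgroup Y} (hc : Cls V U) (h : Bad U M H) (y : Y) :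
    Bad U M (MulAut.conj y • H) where
  ne := fun h1 => h.ne (conj_eq_top h1)
  mem := exists_conj_mem hc h.mem y
  not_le := fun x hx => by
    rw [conj_le_iff, conj_smul_smul] at hx
    exact h.not_le _ hx

namespace Amb

variable {U : Set (Subgroup Y)} {T : Sylow 2 Y} {M : Subgroup Y} (h : Amb V U T M)
include h

theorem two (v : V) : v + v = 0 := h.cls.two v

/-- an invariant submodule in `E_B` is zero -/
theorem irr_of {W : AddSubgroup V} (hW : ∀ y : Y, ∀ w ∈ W, y • w ∈ W) {B : Subgroup Y} (hB : B ∈ U)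
    (hWE : W ≤ Ee V B) : W = ⊥ := by
  rcases h.irr W hW with h1 | h1
  · exact h1
  · exact absurd hWE (h1 B hB)

/-- `C_V(Y) = 0` -/
theorem fx_top_of {B : Subgroup Y} (hB : B ∈ U) : fx V (⊤ : Subgroup Y) = ⊥ := by
  apply h.irr_of _ hB
  · intro v hv
    exact (h.cls.mem B hB).FE fun b _ => hv b (mem_top b)
  · intro y w hw x _
    rw [hw y (mem_top y)]
    exact hw x (mem_top x)

theorem conj_ne (y : Y) : MulAut.conj y • M ≠ ⊤ := fun h1 => h.Mne (conj_eq_top h1)

/-- a Sylow 2-subgroup lies in one point -/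
theorem sylow_one [Finite Y] {x y z : Y} (h1 : MulAut.conj x • (T : Subgroup Y) ≤ MulAut.conj y • M)
    (h2 : MulAut.conj x • (T : Subgroup Y) ≤ MulAut.conj z • M) : MulAut.conj y • M = MulAut.conj z • M := by
  have key : ∀ w : Y, MulAut.conj x • (T : Subgroup Y) ≤ MulAut.conj w • M →
      MulAut.conj w • M = MulAut.conj x • M := by
    intro w hw
    rw [conj_le_iff] at hw
    have h3 := h.max _ hw (by rw [conj_smul_smul]; exact h.conj_ne _)
    rw [conj_smul_smul] at h3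
    have h4 : MulAut.conj (x⁻¹ * w) • M = M := by
      apply eq_of_le_of_card_ge h3
      rw [conj_card]
    have e : w = x * (x⁻¹ * w) := by group
    rw [e, ← conj_smul_smul, h4]
  rw [key y h1, key z h2]

/-- a 2-subgroup of a point lies in a Sylow 2-subgroup of the point -/
theorem exists_sylow [Finite Y] {R : Subgroup Y} (hR : IsPGroup 2 R) {x : Y} (hx : R ≤ MulAut.conj x • M) :
    ∃ k : Y, R ≤ MulAut.conj k • (T : Subgroup Y) ∧ MulAut.conj k • (T : Subgroup Y) ≤ MulAut.conj x • M := by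
  have h1 : MulAut.conj x⁻¹ • R ≤ M := by
    rw [conj_le_iff, inv_inv]; exact hx
  obtain ⟨k, hk, hkR⟩ := sylow_conj T h.TM (conj_isPGroup (y := x⁻¹) hR) h1
  refine ⟨x * k, ?_, ?_⟩
  · intro r hr
    rw [mem_conj]
    have h2 := hkR _ (conj_mem_conj (g := x⁻¹) hr)
    have e : (x * k)⁻¹ * r * (x * k) = k⁻¹ * (x⁻¹ * r * x⁻¹⁻¹) * k := by group
    rw [e]
    exact h2
  · rw [← conj_smul_smul]
    apply conj_le_conj
    intro y hy
    rw [mem_conj] at hy
    have h2 := M.mul_mem (M.mul_mem hk (h.TM hy)) (M.inv_mem hk)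
    have e : k * (k⁻¹ * y * k) * k⁻¹ = y := by group
    rwa [e] at h2

omit h in
theorem lt_norm [Finite Y] {R S : Subgroup Y} (hS : IsPGroup 2 S) (hRS : R < S) :
    R < S ⊓ normalizer (R : Set Y) :=
  haveI : Fact (Nat.Prime 2) := ⟨Nat.prime_two⟩
  Cfsg.Agent.PLocal.ConjFunctor.lt_inf_normalizer hS hRS

omit h in
theorem card_lt' [Finite Y] {R S : Subgroup Y} (h1 : R < S) : Nat.card R < Nat.card S := by
  by_contra h2
  exact h1.ne (eq_of_le_of_card_ge h1.le (not_lt.1 h2))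

/-- **(a)** -/
theorem one_of_max [Finite Y] {n : ℕ}
    (hmax : ∀ X : Subgroup Y, Bad U M X → ∀ R' ≤ X, IsPGroup 2 R' → Nat.card R' ≤ n) :
    ∀ (k : ℕ) (R : Subgroup Y), Nat.card Y - Nat.card R = k → IsPGroup 2 R → (∃ B ∈ U, B ≤ R) →
      n ≤ Nat.card R → ∀ x y : Y, R ≤ MulAut.conj x • M → R ≤ MulAut.conj y • M →
        MulAut.conj x • M = MulAut.conj y • M := by
  intro k
  induction k using Nat.strong_induction_on with
  | _ k ih =>
    intro R hk hR hm hn x y hx hy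
    by_contra hne
    have step : ∀ a b : Y, R ≤ MulAut.conj a • M → R ≤ MulAut.conj b • M →
        MulAut.conj a • M ≠ MulAut.conj b • M → ∃ S : Subgroup Y, R < S ∧ S ≤ normalizer (R : Set Y) ∧
          IsPGroup 2 S ∧ S ≤ MulAut.conj a • M := by
      intro a b ha hb hab
      obtain ⟨g, hg1, hg2⟩ := h.exists_sylow hR ha
      have hlt : R < MulAut.conj g • (T : Subgroup Y) := by
        refine lt_of_le_of_ne hg1 ?_
        intro h1
        exact hab (h.sylow_one hg2 (by rw [← h1]; exact hb))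
      have hT2 : IsPGroup 2 ↥(MulAut.conj g • (T : Subgroup Y)) := conj_isPGroup T.2
      exact ⟨_, lt_norm hT2 hlt, inf_le_right, hT2.to_le inf_le_left, inf_le_left.trans hg2⟩
    obtain ⟨S1, hS1, hS1N, hS1p, hS1M⟩ := step x y hx hy hne
    obtain ⟨S2, hS2, hS2N, hS2p, hS2M⟩ := step y x hy hx (Ne.symm hne)
    have hle : ∀ S : Subgroup Y, Nat.card S ≤ Nat.card Y := fun S =>
      Nat.le_of_dvd Nat.card_pos S.card_subgroup_dvd_card
    have hbad : Bad U M (normalizer (R : Set Y)) := by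
      refine ⟨?_, ?_, ?_⟩
      · intro h1
        have h2 : R.Normal := normalizer_eq_top_iff.1 h1
        exact mem_of_bad h.cls hm (h.core R h2 hR)
      · obtain ⟨B, hB, hBR⟩ := hm
        exact ⟨B, hB, hBR.trans le_normalizer⟩
      · intro z hz
        have key : ∀ S : Subgroup Y, R < S → S ≤ normalizer (R : Set Y) → IsPGroup 2 S → ∀ a : Y,
            S ≤ MulAut.conj a • M → MulAut.conj a • M = MulAut.conj z • M := by
          intro S hS hSN hSp a hSM
          have h1 := card_lt' hS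
          have h2 := hle S
          obtain ⟨B, hB, hBR⟩ := hm
          exact ih (Nat.card Y - Nat.card S) (by omega) S rfl hSp ⟨B, hB, hBR.trans hS.le⟩
            (hn.trans h1.le) a z hSM (hSN.trans hz)
        exact hne ((key S1 hS1 hS1N hS1p x hS1M).trans (key S2 hS2 hS2N hS2p y hS2M).symm)
    have h1 := hmax _ hbad S1 hS1N hS1p
    have h2 := card_lt' hS1
    omega

end Amb

/-- a 2-subgroup is conjugate into a 2-subgroup of maximal order -/
theorem conj_into [Finite Y] {X R B : Subgroup Y} (hRX : R ≤ X) (hR : IsPGroup 2 R)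
    (hmax : ∀ R' ≤ X, IsPGroup 2 R' → Nat.card R' ≤ Nat.card R) (hBX : B ≤ X) (hB : IsPGroup 2 B) :
    ∃ x ∈ X, MulAut.conj x • B ≤ R := by
  have : Fact (Nat.Prime 2) := ⟨Nat.prime_two⟩
  obtain ⟨Q, hQ⟩ := (hR.comap_of_injective X.subtype X.subtype_injective).exists_le_sylow
  obtain ⟨P, hP⟩ := (hB.comap_of_injective X.subtype X.subtype_injective).exists_le_sylow
  have h1 : R = (Q : Subgroup X).map X.subtype := by
    apply eq_of_le_of_card_ge
    · intro r hr
      exact ⟨⟨r, hRX hr⟩, hQ (by rw [mem_comap]; exact hr), rfl⟩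
    · exact hmax _ (map_subtype_le _) (Q.2.map _)
  obtain ⟨x, hx⟩ := MulAction.exists_smul_eq X P Q
  refine ⟨x, x.2, ?_⟩
  intro b hb
  rw [mem_conj] at hb
  have h2 : (⟨(x : Y)⁻¹ * b * x, hBX hb⟩ : X) ∈ P := hP (by rw [mem_comap]; exact hb)
  have h3 : x * (⟨(x : Y)⁻¹ * b * x, hBX hb⟩ : X) * x⁻¹ ∈ Q := by
    rw [← hx]
    exact Subgroup.smul_mem_pointwise_smul _ (MulAut.conj x) _ h2
  rw [h1]
  refine ⟨_, h3, ?_⟩
  change (x : Y) * ((x : Y)⁻¹ * b * x) * (x : Y)⁻¹ = b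
  group

/-- **(1), (a), (b)**: the choice. -/
theorem Amb.exists_amal [Finite Y] {U : Set (Subgroup Y)} {T : Sylow 2 Y} {M : Subgroup Y} (h : Amb V U T M)
    (hbad : ∃ X, Bad U M X) : ∃ (H R : Subgroup Y) (t : Y), Amal U T M H R t := by
  classical
  have : Fact (Nat.Prime 2) := ⟨Nat.prime_two⟩
  -- `|R|` maximal
  obtain ⟨⟨X0, R0⟩, ⟨hX0, hR0X, hR0⟩, hmax0⟩ := Set.exists_max_image
    {p : Subgroup Y × Subgroup Y | Bad U M p.1 ∧ p.2 ≤ p.1 ∧ IsPGroup 2 p.2} (fun p => Nat.card p.2)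
    (Set.toFinite _) (by
      obtain ⟨X, hX⟩ := hbad
      exact ⟨(X, ⊥), hX, bot_le, IsPGroup.of_bot⟩)
  have hmax : ∀ X : Subgroup Y, Bad U M X → ∀ R' ≤ X, IsPGroup 2 R' → Nat.card R' ≤ Nat.card R0 :=
    fun X hX R' hR'X hR' => hmax0 (X, R') ⟨hX, hR'X, hR'⟩
  -- a member in `R0`
  have hm0 : ∃ B ∈ U, B ≤ R0 := by
    obtain ⟨B, hB, hBX⟩ := hX0.mem
    obtain ⟨x, _, hx⟩ := conj_into hR0X hR0 (hmax X0 hX0) hBX (h.cls.mem B hB).isPGroup
    exact ⟨_, h.cls.conj B hB x, hx⟩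
  -- conjugate into `T`
  obtain ⟨y, hy⟩ : ∃ y : Y, MulAut.conj y • R0 ≤ (T : Subgroup Y) := by
    obtain ⟨k, _, hk⟩ := sylow_conj T (K := ⊤) le_top hR0 le_top
    refine ⟨k⁻¹, fun r hr => ?_⟩
    rw [mem_conj] at hr
    have := hk _ hr
    have e : k⁻¹ * (k⁻¹⁻¹ * r * k⁻¹) * k = r := by group
    rwa [e] at this
  set R := MulAut.conj y • R0 with hRdef
  have hR : IsPGroup 2 R := conj_isPGroup hR0
  have hcard : Nat.card R = Nat.card R0 := conj_card y R0
  have hmR : ∃ B ∈ U, B ≤ R := exists_conj_mem h.cls hm0 y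
  rw [← hcard] at hmax
  have hone := fun R' h1 h2 h3 => h.one_of_max hmax _ R' rfl h1 h2 h3
  -- `H` minimal
  obtain ⟨H, ⟨hH, hRH⟩, hmin⟩ := Set.exists_min_image {X : Subgroup Y | Bad U M X ∧ R ≤ X}
    (fun X => Nat.card X) (Set.toFinite _) ⟨_, hX0.conj h.cls y, conj_le_conj y hR0X⟩
  have huniq : ∀ X : Subgroup Y, R ≤ X → X < H → X ≤ M := by
    intro X hRX hXH
    by_contra hXM
    have h1 : Bad U M X := by
      refine ⟨fun h2 => ?_, ?_, fun z hz => ?_⟩
      · rw [h2] at hXH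
        exact not_top_lt hXH
      · obtain ⟨B, hB, hBR⟩ := hmR
        exact ⟨B, hB, hBR.trans hRX⟩
      · have h2 := hone R hR hmR le_rfl z 1 (hRX.trans hz) (by rw [map_one, one_smul]; exact hy.trans h.TM)
        rw [h2, map_one, one_smul] at hz
        exact hXM hz
    have h2 := hmin X ⟨h1, hRX⟩
    have h3 := Amb.card_lt' hXH
    omega
  have hRT : R < (T : Subgroup Y) := by
    refine lt_of_le_of_ne hy fun h1 => ?_
    have h2 := h.max H (by rw [← h1]; exact hRH) hH.ne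
    exact hH.not_le 1 (by rw [map_one, one_smul]; exact h2)
  -- `t`
  obtain ⟨t, ht1, ht2, ht3, ht4⟩ : ∃ t ∈ T, t ∈ normalizer (R : Set Y) ∧ t ∉ R ∧ t * t ∈ R := by
    obtain ⟨y, hy, hyD⟩ := SetLike.exists_of_lt (Amb.lt_norm T.2 hRT)
    obtain ⟨n, hn⟩ := T.2 ⟨y, hy.1⟩
    have hn' : y ^ 2 ^ n = 1 := by
      have := congrArg Subtype.val hn
      simpa using this
    have hex : ∃ n, y ^ 2 ^ n ∈ R := ⟨n, by rw [hn']; exact one_mem _⟩
    have h1 := Nat.find_spec hex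
    have h0 : Nat.find hex ≠ 0 := by
      intro h0
      rw [h0, pow_zero, pow_one] at h1
      exact hyD h1
    obtain ⟨k, hk⟩ := Nat.exists_eq_succ_of_ne_zero h0
    have h2 := Nat.find_min hex (m := k) (by omega)
    rw [hk] at h1
    refine ⟨y ^ 2 ^ k, pow_mem hy.1 _, pow_mem hy.2 _, h2, ?_⟩
    have e : y ^ 2 ^ k * y ^ 2 ^ k = y ^ 2 ^ (k + 1) := by
      rw [← pow_add, pow_succ, mul_two]
    rw [e]
    exact h1
  refine ⟨H, R, t, hH, hRH, hy, hmR, hmax, hone, huniq, ht1, ht3, ht4,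
    fun r hr => (mem_normalizer_iff.1 ht2 r).1 hr, ?_⟩
  by_contra htop
  have h1 : Bad U M (H ⊔ zpowers t) :=
    { ne := htop
      mem := by
        obtain ⟨B, hB, hBH⟩ := hH.mem
        exact ⟨B, hB, hBH.trans le_sup_left⟩
      not_le := fun z hz => hH.not_le z (le_sup_left.trans hz) }
  have h2 : R ⊔ zpowers t ≤ (T : Subgroup Y) := sup_le hRT.le (zpowers_le.2 ht1)
  have h3 := hmax _ h1 (R ⊔ zpowers t) (sup_le (hRH.trans le_sup_left) le_sup_right) (T.2.to_le h2)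
  have h4 : R < R ⊔ zpowers t := by
    refine lt_of_le_of_ne le_sup_left fun h5 => ht3 ?_
    rw [h5]
    exact mem_sup_right (mem_zpowers t)
  have h5 := Amb.card_lt' h4
  omega

end Cfsg.Agent.Omega.NO1.TH

end

section


/-!
# N1, BETA: the amalgam `(H, H^t)`, first facts (bb OMEGA 19584 (1) (b)-(d), helper874)

`R = T_H`, `V₀ = C_V(R)`, `W = ⟨V₀^H⟩ = WW H R`, `Q = O₂(H) = QQ H R := ⋂ R^h`, `C = C_V(H)`.
-/

set_option autoImplicit false
set_option linter.unusedSectionVars false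

namespace Cfsg.Agent.Omega.NO1.TH

open Subgroup Cfsg.Agent.Omega.NO1.AB
open scoped Pointwise

universe u

variable {Y : Type u} [Group Y] {V : Type u} [AddCommGroup V] [DistribMulAction Y V]

/-- `⟨C_V(R)^H⟩` -/
def WW (V : Type u) [AddCommGroup V] [DistribMulAction Y V] (H R : Subgroup Y) : AddSubgroup V :=
  AddSubgroup.closure {v | ∃ x ∈ H, ∃ w ∈ fx V R, v = x • w}

theorem smul_mem_WW {H R : Subgroup Y} {x : Y} (hx : x ∈ H) {v : V} (hv : v ∈ WW V H R) : x • v ∈ WW V H R := by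
  induction hv using AddSubgroup.closure_induction with
  | mem v hv =>
    obtain ⟨y, hy, w, hw, rfl⟩ := hv
    exact AddSubgroup.subset_closure ⟨x * y, H.mul_mem hx hy, w, hw, by rw [mul_smul]⟩
  | zero => rw [smul_zero]; exact zero_mem _
  | add a b _ _ h1 h2 => rw [smul_add]; exact add_mem h1 h2
  | neg a _ h1 => rw [smul_neg]; exact neg_mem h1

theorem fx_le_WW {H R : Subgroup Y} : fx V R ≤ WW V H R := fun v hv =>
  AddSubgroup.subset_closure ⟨1, H.one_mem, v, hv, (one_smul Y v).symm⟩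

theorem WW_le {H R : Subgroup Y} {W : AddSubgroup V} (h : ∀ x ∈ H, ∀ w ∈ fx V R, x • w ∈ W) :
    WW V H R ≤ W := by
  refine (AddSubgroup.closure_le _).2 ?_
  rintro _ ⟨x, hx, w, hw, rfl⟩
  exact h x hx w hw

/-- `O₂(H)`, the intersection of the `H`-conjugates of `R` -/
def QQ (H R : Subgroup Y) : Subgroup Y where
  carrier := {y | ∀ x ∈ H, x * y * x⁻¹ ∈ R}
  one_mem' := fun x _ => by rw [mul_one, mul_inv_cancel]; exact one_mem _
  mul_mem' := fun {a b} ha hb x hx => by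
    have := R.mul_mem (ha x hx) (hb x hx)
    have e : x * a * x⁻¹ * (x * b * x⁻¹) = x * (a * b) * x⁻¹ := by group
    rwa [e] at this
  inv_mem' := fun {a} ha x hx => by
    have := R.inv_mem (ha x hx)
    have e : (x * a * x⁻¹)⁻¹ = x * a⁻¹ * x⁻¹ := by group
    rwa [e] at this

theorem QQ_le {H R : Subgroup Y} : QQ H R ≤ R := fun y hy => by
  have := hy 1 H.one_mem
  simpa using this

theorem conj_mem_QQ {H R : Subgroup Y} {x y : Y} (hx : x ∈ H) (hy : y ∈ QQ H R) : x * y * x⁻¹ ∈ QQ H R := by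
  intro z hz
  have := hy (z * x) (H.mul_mem hz hx)
  have e : z * x * y * (z * x)⁻¹ = z * (x * y * x⁻¹) * z⁻¹ := by group
  rwa [e] at this

theorem le_QQ {H R N : Subgroup Y} (h1 : N ≤ R) (h2 : ∀ x ∈ H, ∀ y ∈ N, x * y * x⁻¹ ∈ N) : N ≤ QQ H R :=
  fun y hy x hx => h1 (h2 x hx y hy)

namespace Amal

variable {U : Set (Subgroup Y)} {T : Sylow 2 Y} {M H R : Subgroup Y} {t : Y}

section one

variable (a : Amal U T M H R t)
include a

theorem R2 : IsPGroup 2 R := T.2.to_le a.RT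

theorem symm_smul {r : Y} (hr : r ∈ R) : t⁻¹ * r * t ∈ R := by
  have h1 := a.t_norm _ hr
  have h2 := R.mul_mem (R.mul_mem (R.inv_mem a.t_sq) h1) a.t_sq
  have e : (t * t)⁻¹ * (t * r * t⁻¹) * (t * t) = t⁻¹ * r * t := by group
  rwa [e] at h2

/-- `R` lies in the point `M` only -/
theorem point {y : Y} (hTM : (T : Subgroup Y) ≤ M) (hy : R ≤ MulAut.conj y • M) : MulAut.conj y • M = M := by
  have h1 := a.one R a.R2 a.memR le_rfl y 1 hy (by rw [map_one, one_smul]; exact a.RT.trans hTM)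
  rwa [map_one, one_smul] at h1

/-- **(b)**: every `X` with `R ≤ X < Y` is in `M` or `Bad` -/
theorem le_or_bad {X : Subgroup Y} (hTM : (T : Subgroup Y) ≤ M) (hX : X ≠ ⊤) (hRX : R ≤ X) :
    X ≤ M ∨ Bad U M X := by
  by_cases h1 : X ≤ M
  · exact Or.inl h1
  · refine Or.inr ⟨hX, ?_, fun y hy => h1 ?_⟩
    · obtain ⟨B, hB, hBR⟩ := a.memR
      exact ⟨B, hB, hBR.trans hRX⟩
    · rw [← a.point hTM (hRX.trans hy)]
      exact hy

/-- **(b)**: `R ≤ X < Y` and a larger 2-group in `X`: `X ≤ M` -/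
theorem le_of_card {X S : Subgroup Y} (hTM : (T : Subgroup Y) ≤ M) (hX : X ≠ ⊤) (hRX : R ≤ X) (hSX : S ≤ X)
    (hS : IsPGroup 2 S) (hc : Nat.card R < Nat.card S) : X ≤ M := by
  rcases a.le_or_bad hTM hX hRX with h1 | h1
  · exact h1
  · have := a.le_card X h1 S hSX hS
    omega

/-- **(b)**: `H ≤ X < Y`: `R` is Sylow in `X` -/
theorem card_le {X S : Subgroup Y} (hX : X ≠ ⊤) (hHX : H ≤ X) (hSX : S ≤ X) (hS : IsPGroup 2 S) :
    Nat.card S ≤ Nat.card R :=
  a.le_card X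
    { ne := hX
      mem := by
        obtain ⟨B, hB, hBR⟩ := a.memR
        exact ⟨B, hB, hBR.trans (a.RH.trans hHX)⟩
      not_le := fun y hy => a.bad.not_le y (hHX.trans hy) } S hSX hS

/-- `⟨R, t⟩` is a 2-group larger than `R` -/
theorem card_lt [Finite Y] : Nat.card R < Nat.card ↥(R ⊔ zpowers t) := by
  apply Amb.card_lt'
  refine lt_of_le_of_ne le_sup_left fun h5 => a.t_not ?_
  rw [h5]
  exact mem_sup_right (mem_zpowers t)

theorem Rt2 : IsPGroup 2 ↥(R ⊔ zpowers t) := T.2.to_le (sup_le a.RT (zpowers_le.2 a.t_T))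

/-- nothing is normalised by `H` and `t` -/
theorem no_inv (hcore : ∀ N : Subgroup Y, N.Normal → IsPGroup 2 N → N = ⊥) {N : Subgroup Y}
    (hN : IsPGroup 2 N) (h1 : ∀ x ∈ H, ∀ y ∈ N, x * y * x⁻¹ ∈ N) (h2 : ∀ y ∈ N, t * y * t⁻¹ ∈ N)
    (h3 : ∀ y ∈ N, t⁻¹ * y * t ∈ N) : N = ⊥ := by
  apply hcore N _ hN
  rw [← normalizer_eq_top_iff, eq_top_iff, ← a.top]
  refine sup_le ?_ ?_
  · intro x hx
    rw [mem_normalizer_iff]
    intro y
    refine ⟨fun hy => h1 x hx y hy, fun hy => ?_⟩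
    have := h1 x⁻¹ (H.inv_mem hx) _ hy
    have e : x⁻¹ * (x * y * x⁻¹) * x⁻¹⁻¹ = y := by group
    rwa [e] at this
  · rw [zpowers_le, mem_normalizer_iff]
    intro y
    refine ⟨fun hy => h2 y hy, fun hy => ?_⟩
    have := h3 _ hy
    have e : t⁻¹ * (t * y * t⁻¹) * t = y := by group
    rwa [e] at this

/-- `t V₀ = V₀` -/
theorem smul_V0 {v : V} (hv : v ∈ fx V R) : t • v ∈ fx V R := by
  intro r hr
  have h1 := hv _ (a.symm_smul hr)
  rw [mul_smul, mul_smul, inv_smul_eq_iff] at h1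
  exact h1

theorem smul_V0' {v : V} (hv : v ∈ fx V R) : t⁻¹ • v ∈ fx V R := by
  intro r hr
  have h1 := hv _ (a.t_norm _ hr)
  rw [mul_smul, mul_smul] at h1
  rw [eq_inv_smul_iff]
  exact h1

/-- `t² = 1` on `V₀` -/
theorem smul_smul_V0 {v : V} (hv : v ∈ fx V R) : t • t • v = v := by
  rw [← mul_smul]
  exact hv _ a.t_sq

theorem inv_smul_V0 {v : V} (hv : v ∈ fx V R) : t⁻¹ • v = t • v := by
  rw [inv_smul_eq_iff, a.smul_smul_V0 hv]

/-- `C ≤ V₀` -/
theorem C_le : fx V H ≤ fx V R := fx_mono a.RH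

/-- `<H, U₁>`: a member in `H` outside `M` generates `H` with `R` -/
theorem gen {X : Subgroup Y} (hXH : X ≤ H) (hXM : ¬ X ≤ M) : R ⊔ X = H := by
  by_contra h1
  exact hXM (le_sup_right.trans (a.uniq _ le_sup_left (lt_of_le_of_ne (sup_le a.RH hXH) h1)))

/-- **(c)**: `F_{U₁} ∩ V₀ = C` -/
theorem fx_inf {X : Subgroup Y} (hXH : X ≤ H) (hXM : ¬ X ≤ M) : fx V X ⊓ fx V R = fx V H := by
  apply le_antisymm
  · rintro v ⟨h1, h2⟩
    have h3 : H ≤ MulAction.stabilizer Y v := by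
      rw [← a.gen hXH hXM]
      exact sup_le (fun r hr => h2 r hr) (fun x hx => h1 x hx)
    exact fun y hy => h3 hy
  · exact le_inf (fx_mono hXH) (fx_mono a.RH)

end one

section amb

variable (a : Amal U T M H R t) (h : Amb V U T M)
include a h

theorem H_not_le : ¬ H ≤ M := fun h1 => a.bad.not_le 1 (by rw [map_one, one_smul]; exact h1)

theorem H_ne : H ≠ ⊤ := a.bad.ne

/-- a subgroup invariant under `H` and `t` -/
theorem no_sub {W : AddSubgroup V} (h1 : ∀ x ∈ H, ∀ w ∈ W, x • w ∈ W) (h2 : ∀ w ∈ W, t • w ∈ W) :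
    W = ⊥ ∨ ∀ B ∈ U, ¬ W ≤ Ee V B := by
  apply h.irr
  have key : ∀ y ∈ (H ⊔ zpowers t : Subgroup Y), ∀ w ∈ W, y • w ∈ W ∧ y⁻¹ • w ∈ W := by
    intro y hy
    have ht : ∀ w ∈ W, t⁻¹ • w ∈ W := by
      intro w hw
      have h3 := h2 w hw
      have h4 : t⁻¹ • w = (t * t)⁻¹ • t • w := by
        rw [← mul_smul]; congr 1; group
      rw [h4]
      exact h1 _ (H.inv_mem (a.RH a.t_sq)) _ h3
    rw [← closure_eq H, zpowers_eq_closure, ← Subgroup.closure_union] at hy
    induction hy using closure_induction with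
    | mem x hx =>
      rcases hx with hx | hx
      · exact fun w hw => ⟨h1 x hx w hw, h1 _ (H.inv_mem hx) w hw⟩
      · rw [Set.mem_singleton_iff] at hx
        subst hx
        exact fun w hw => ⟨h2 w hw, ht w hw⟩
    | one => intro w hw; rw [inv_one, one_smul]; exact ⟨hw, hw⟩
    | mul x y _ _ hx hy =>
      intro w hw
      rw [mul_inv_rev, mul_smul, mul_smul]
      exact ⟨(hx _ (hy w hw).1).1, (hy _ (hx w hw).2).2⟩
    | inv x _ hx =>
      intro w hw
      rw [inv_inv]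
      exact ⟨(hx w hw).2, (hx w hw).1⟩
  intro y w hw
  exact (key y (by rw [a.top]; exact mem_top y) w hw).1

/-- `C_V(Y) = 0` -/
theorem fx_top : fx V (⊤ : Subgroup Y) = ⊥ := by
  obtain ⟨B, hB, _⟩ := a.memR
  exact h.fx_top_of hB

theorem stab_ne {v : V} (hv : v ≠ 0) : MulAction.stabilizer Y v ≠ ⊤ := by
  intro h1
  apply hv
  have : v ∈ fx V (⊤ : Subgroup Y) := fun y hy => by
    rw [← h1] at hy; exact hy
  rw [fx_top a h] at this
  exact this

/-- **(c)**: `C ∩ C^t = 0` -/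
theorem C_inf {v : V} (h1 : v ∈ fx V H) (h2 : t • v ∈ fx V H) : v = 0 := by
  have h3 : v + t • v = 0 ∨ v + t • v ≠ 0 := em _
  have key : ∀ w : V, w ∈ fx V H → t • w = w → w = 0 := by
    intro w hw1 hw2
    by_contra hw
    apply stab_ne a h hw
    rw [eq_top_iff, ← a.top]
    exact sup_le (fun x hx => hw1 x hx) (zpowers_le.2 hw2)
  have h4 := key (v + t • v) ((fx V H).add_mem h1 h2) (by
    rw [smul_add, a.smul_smul_V0 (a.C_le h1), add_comm])
  apply key v h1
  have h5 : t • v = v := by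
    have := (HE.add_eq_zero' h.two).1 h4
    exact this.symm
  exact h5

/-- **(c)**: `w ∈ V₀`, `w^t ≠ w` ⟹ `C_Y(w) ∩ C_Y(w^t) ≤ M` -/
theorem stab_inf_le [Finite Y] {w : V} (hw : w ∈ fx V R) (hne : t • w ≠ w) :
    MulAction.stabilizer Y w ⊓ MulAction.stabilizer Y (t • w) ≤ M := by
  have h0 : w + t • w ≠ 0 := fun h1 => hne ((HE.add_eq_zero' h.two).1 h1).symm
  have hR : R ≤ MulAction.stabilizer Y (w + t • w) := by
    intro r hr
    rw [MulAction.mem_stabilizer_iff, smul_add, hw r hr, a.smul_V0 hw r hr]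
  have ht : t ∈ MulAction.stabilizer Y (w + t • w) := by
    rw [MulAction.mem_stabilizer_iff, smul_add, a.smul_smul_V0 hw, add_comm]
  refine le_trans ?_ (a.le_of_card h.TM (stab_ne a h h0) hR (sup_le hR (zpowers_le.2 ht)) a.Rt2 a.card_lt)
  rintro y ⟨h1, h2⟩
  rw [MulAction.mem_stabilizer_iff] at *
  rw [smul_add]
  exact congrArg₂ (· + ·) h1 h2

/-- **(c)**: `0 ≠ w = w^t ∈ V₀` ⟹ `C_Y(w) ≤ M` -/
theorem stab_le [Finite Y] {w : V} (hw : w ∈ fx V R) (hw0 : w ≠ 0) (ht : t • w = w) :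
    MulAction.stabilizer Y w ≤ M :=
  a.le_of_card h.TM (stab_ne a h hw0) (fun r hr => hw r hr)
    (sup_le (fun r hr => hw r hr) (zpowers_le.2 ht)) a.Rt2 a.card_lt

/-- `C_V(T) ≠ 0`, `C_Y(C_V(T)) ≤ M` -/
theorem exists_z [Finite V] : ∃ z : V, z ≠ 0 ∧ z ∈ fx V (T : Subgroup Y) := by
  have hne : ∃ w ∈ (⊤ : AddSubgroup V), w ≠ 0 := by
    obtain ⟨B, hB, _⟩ := a.memR
    obtain ⟨v, hv⟩ := (h.cls.mem B hB).ne
    exact ⟨v, AddSubgroup.mem_top v, fun h1 => hv (by rw [h1]; exact zero_mem _)⟩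
  obtain ⟨w, _, hw0, hw⟩ := HE.exists_fixed h.two (R := (T : Subgroup Y)) T.2 ⊤ (fun _ _ _ _ => AddSubgroup.mem_top _) hne
  exact ⟨w, hw0, hw⟩

/-- the kernel of `H` on `W` lies in `M` -/
theorem ker_le_M [Finite V] {X : Subgroup Y} (hX : ∀ x ∈ X, ∀ v ∈ fx V R, x • v = v) : X ≤ M := by
  obtain ⟨z, hz0, hz⟩ := exists_z a h
  have h1 : (T : Subgroup Y) ≤ MulAction.stabilizer Y z := fun x hx => hz x hx
  exact le_trans (fun x hx => hX x hx z (fx_mono a.RT hz)) (h.max _ h1 (stab_ne a h hz0))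

/-- `Q` is trivial on `W` -/
theorem QQ_fix {q : Y} (hq : q ∈ QQ H R) {w : V} (hw : w ∈ WW V H R) : q • w = w := by
  induction hw using AddSubgroup.closure_induction with
  | mem v hv =>
    obtain ⟨x, hx, w, hw, rfl⟩ := hv
    have h1 := hw _ (QQ_le (conj_mem_QQ (H.inv_mem hx) hq))
    rw [mul_smul, mul_smul, inv_smul_eq_iff, inv_inv] at h1
    exact h1
  | zero => exact smul_zero q
  | add b c _ _ h1 h2 => rw [smul_add, h1, h2]
  | neg b _ h1 => rw [smul_neg, h1]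

/-- **(c)**: `C_R(W) = Q` (Frattini) -/
theorem mem_QQ_iff [Finite Y] [Finite V] {r : Y} (hr : r ∈ R) : r ∈ QQ H R ↔ ∀ w ∈ WW V H R, r • w = w := by
  have : Fact (Nat.Prime 2) := ⟨Nat.prime_two⟩
  refine ⟨fun h1 w hw => QQ_fix a h h1 hw, fun h1 => ?_⟩
  -- the kernel
  let K : Subgroup H :=
    { carrier := {x | ∀ w ∈ WW V H R, (x : Y) • w = w}
      one_mem' := fun w _ => one_smul Y w
      mul_mem' := fun {x y} hx hy w hw => by
        change ((x : Y) * (y : Y)) • w = w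
        rw [mul_smul, hy w hw, hx w hw]
      inv_mem' := fun {x} hx w hw => by
        change (x : Y)⁻¹ • w = w
        rw [inv_smul_eq_iff, hx w hw] }
  have hK : ∀ x : H, x ∈ K ↔ ∀ w ∈ WW V H R, (x : Y) • w = w := fun x => Iff.rfl
  have hKn : K.Normal := by
    refine ⟨fun x hx g w hw => ?_⟩
    change ((g : Y) * x * (g : Y)⁻¹) • w = w
    rw [mul_smul, mul_smul, hx _ (smul_mem_WW (H.inv_mem g.2) hw), smul_inv_smul]
  -- `R` as a Sylow subgroup of `H`
  have hRp : IsPGroup 2 (R.subgroupOf H) := a.R2.comap_of_injective H.subtype H.subtype_injective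
  obtain ⟨P, hP⟩ := hRp.exists_le_sylow
  have hPR : (P : Subgroup H) = R.subgroupOf H := by
    symm
    apply eq_of_le_of_card_ge hP
    have h2 := a.card_le a.bad.ne le_rfl (map_subtype_le (P : Subgroup H)) (P.2.map H.subtype)
    rw [Nat.card_congr ((P : Subgroup H).equivMapOfInjective _ H.subtype_injective).symm.toEquiv] at h2
    rwa [Nat.card_congr (subgroupOfEquivOfLe a.RH).toEquiv]
  have h2 := frattini_inf P K
  have h3 : normalizer (((P : Subgroup H) ⊓ K : Subgroup H) : Set H) = ⊤ := by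
    by_contra h4
    set N := normalizer (((P : Subgroup H) ⊓ K : Subgroup H) : Set H) with hN
    have hle : R ≤ N.map H.subtype := by
      intro r hr
      refine ⟨⟨r, a.RH hr⟩, ?_, rfl⟩
      have hrP : (⟨r, a.RH hr⟩ : H) ∈ P := by
        change (⟨r, a.RH hr⟩ : H) ∈ (P : Subgroup H)
        rw [hPR]; exact hr
      rw [hN, SetLike.mem_coe, mem_normalizer_iff]
      intro y
      constructor
      · rintro ⟨hy1, hy2⟩
        exact ⟨(P : Subgroup H).mul_mem ((P : Subgroup H).mul_mem hrP hy1) ((P : Subgroup H).inv_mem hrP),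
          hKn.conj_mem y hy2 _⟩
      · rintro ⟨hy1, hy2⟩
        refine ⟨?_, ?_⟩
        · have := (P : Subgroup H).mul_mem ((P : Subgroup H).mul_mem ((P : Subgroup H).inv_mem hrP) hy1) hrP
          have e : (⟨r, a.RH hr⟩ : H)⁻¹ * (⟨r, a.RH hr⟩ * y * (⟨r, a.RH hr⟩ : H)⁻¹) * ⟨r, a.RH hr⟩ = y := by group
          rwa [e] at this
        · have := hKn.conj_mem _ hy2 (⟨r, a.RH hr⟩ : H)⁻¹
          have e : (⟨r, a.RH hr⟩ : H)⁻¹ * (⟨r, a.RH hr⟩ * y * (⟨r, a.RH hr⟩ : H)⁻¹) * (⟨r, a.RH hr⟩ : H)⁻¹⁻¹ = y := by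
            group
          rwa [e] at this
    have hlt : N.map H.subtype < H := by
      refine lt_of_le_of_ne (map_subtype_le _) fun h5 => h4 ?_
      rw [eq_top_iff]
      intro x _
      have h6 : (x : Y) ∈ N.map H.subtype := by rw [h5]; exact x.2
      obtain ⟨n, hn, hnx⟩ := h6
      have : n = x := Subtype.ext hnx
      rwa [← this]
    have h5 := a.uniq _ hle hlt
    have h6 : K.map H.subtype ≤ M := ker_le_M a h (by
      rintro _ ⟨x, hx, rfl⟩ v hv
      exact hx v (fx_le_WW hv))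
    apply H_not_le a h
    intro x hx
    have h7 : (⟨x, hx⟩ : H) ∈ N ⊔ K := by rw [h2]; exact mem_top _
    have h8 : (N ⊔ K).map H.subtype ≤ M := by
      rw [Subgroup.map_sup]; exact sup_le h5 h6
    exact h8 ⟨_, h7, rfl⟩
  have h4 : ((P : Subgroup H) ⊓ K).Normal := normalizer_eq_top_iff.1 h3
  have hrP : (⟨r, a.RH hr⟩ : H) ∈ (P : Subgroup H) := by rw [hPR]; exact hr
  intro x hx
  have h5 := h4.conj_mem (⟨r, a.RH hr⟩ : H) ⟨hrP, h1⟩ ⟨x, hx⟩
  have h6 := h5.1
  rw [hPR] at h6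
  exact h6

/-- `QQ` is a 2-group -/
theorem QQ2 : IsPGroup 2 (QQ H R) := a.R2.to_le QQ_le

/-- `Q^t ≠ Q` unless `Q = 1` -/
theorem QQ_ne (hQ : QQ H R ≠ ⊥) : ∃ q ∈ QQ H R, t * q * t⁻¹ ∉ QQ H R ∨ t⁻¹ * q * t ∉ QQ H R := by
  by_contra hcon
  push Not at hcon
  exact hQ (a.no_inv h.core (QQ2 a h) (fun x hx y hy => conj_mem_QQ hx hy) (fun y hy => (hcon y hy).1)
    fun y hy => (hcon y hy).2)

/-- **(d)**: some member in `R` is not in `Q` -/
theorem exists_not_QQ : ∃ B ∈ U, B ≤ R ∧ ¬ B ≤ QQ H R := by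
  by_contra hcon
  push Not at hcon
  -- the group generated by the members in `R`
  let J : Subgroup Y := ⨆ B : {B : Subgroup Y // B ∈ U ∧ B ≤ R}, (B : Subgroup Y)
  have hJ : ∀ B ∈ U, B ≤ R → B ≤ J := fun B h1 h2 => le_iSup (fun B : {B : Subgroup Y // B ∈ U ∧ B ≤ R} => (B : Subgroup Y)) ⟨B, h1, h2⟩
  have hJR : J ≤ R := iSup_le fun B => B.2.2
  have key : ∀ y : Y, (∀ B ∈ U, B ≤ R → MulAut.conj y • B ≤ R) → ∀ x ∈ J, y * x * y⁻¹ ∈ J := by
    intro y hy
    have h1 : J ≤ MulAut.conj y⁻¹ • J := by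
      apply iSup_le
      rintro ⟨B, hB, hBR⟩
      rw [← conj_le_iff]
      exact hJ _ (h.cls.conj B hB y) (hy B hB hBR)
    intro x hx
    have h2 := h1 hx
    rw [mem_conj] at h2
    have e : (y⁻¹)⁻¹ * x * y⁻¹ = y * x * y⁻¹ := by group
    rwa [e] at h2
  have hJ1 : J = ⊥ := by
    apply a.no_inv h.core (a.R2.to_le hJR)
    · intro x hx
      apply key
      intro B hB hBR y hy
      rw [mem_conj] at hy
      have h1 := QQ_le (conj_mem_QQ hx (hcon B hB hBR hy))
      have e : x * (x⁻¹ * y * x) * x⁻¹ = y := by group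
      rwa [e] at h1
    · apply key
      intro B hB hBR y hy
      rw [mem_conj] at hy
      have h1 := a.t_norm _ (hBR hy)
      have e : t * (t⁻¹ * y * t) * t⁻¹ = y := by group
      rwa [e] at h1
    · have h1 := key t⁻¹ (by
        intro B hB hBR y hy
        rw [mem_conj] at hy
        have h1 := a.symm_smul (hBR hy)
        have e : t⁻¹ * (t⁻¹⁻¹ * y * t⁻¹) * t = y := by group
        rwa [e] at h1)
      intro y hy
      have := h1 y hy
      rwa [inv_inv] at this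
  obtain ⟨B, hB, hBR⟩ := a.memR
  apply Mem.ne_bot (h.cls.mem B hB)
  rw [eq_bot_iff, ← hJ1]
  exact hJ B hB hBR

end amb

end Amal

end Cfsg.Agent.Omega.NO1.TH

end

section


/-!
# N1, one component: the module-level world (CARD N1-ONE #17954, road #19584)

`World V U T M a` : `Amb V U T M`, `|V : E_B| = a ≥ 2`, (PF) `|B| ≥ a²`, no offender, SOC, (SOC-N), (TR).
`Amb.irr` is the weak form (no invariant submodule `≠ 0` in `E_B`): `World` is inherited by the `H` with `W ≰ E_B`.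
All fields hold for `V = V₁ = [V_P, O²(P)]`, `Y = P / C_P(V₁)`, `U` = the conjugates of the image of `W_F`
(`TH/OfFr.lean`).
-/

set_option autoImplicit false
set_option linter.unusedSectionVars false

namespace Cfsg.Agent.Omega.NO1.TH

open Subgroup Cfsg.Agent.Omega.NO1.AB
open scoped Pointwise

universe u

variable {Y : Type u} [Group Y] {V : Type u} [AddCommGroup V] [DistribMulAction Y V]

/-- The line of `x` in the member `B` (`F_q s_x`): `A₁ ≤ C_B(x)`, `|A₁| ≥ |V : E_B|`, quadratic on `V`, and (TR):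
`[x, B] ≤ E'` for every `A₁`-invariant subgroup `E'` of index `< 2 |A₁|`. -/
structure Line (V : Type u) [AddCommGroup V] [DistribMulAction Y V] (B : Subgroup Y) (x : V) (A₁ : Subgroup Y) :
    Prop where
  le : A₁ ≤ B
  card : (Ee V B).index ≤ Nat.card A₁
  fix : ∀ s ∈ A₁, s • x = x
  quad : ∀ s ∈ A₁, ∀ r ∈ A₁, ∀ v : V, s • r • v + s • v + r • v + v = 0
  tr : ∀ E' : AddSubgroup V, (∀ s ∈ A₁, ∀ v ∈ E', s • v ∈ E') → E'.index < 2 * Nat.card A₁ →
    ∀ b ∈ B, b • x + x ∈ E'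

/-- **The world of CARD N1-ONE on `V₁`.** -/
structure World (V : Type u) [AddCommGroup V] [DistribMulAction Y V] (U : Set (Subgroup Y)) (T : Sylow 2 Y)
    (M : Subgroup Y) (a : ℕ) : Prop extends Amb V U T M where
  two_le : 2 ≤ a
  ind : ∀ B ∈ U, (Ee V B).index = a
  /-- (PF) -/
  pf : ∀ B ∈ U, a ^ 2 ≤ Nat.card B
  /-- no offender -/
  noff : ∀ A : Subgroup Y, (∀ x ∈ A, ∀ y ∈ A, x * y = y * x) → (∀ x ∈ A, x * x = 1) → A ≠ ⊥ →
    Nat.card A < (fx V A).index
  /-- SOC -/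
  soc : ∀ B ∈ U, ∀ X : Subgroup Y, B ≤ X → (∃ v : V, v ≠ 0 ∧ ∀ x ∈ X, x • v = v) → B ⊓ ZN.o2 X ≠ ⊥
  /-- (SOC-N), helper301: two members with a common fixed vector -/
  socN : ∀ A ∈ U, ∀ B ∈ U, ∀ v : V, v ≠ 0 → v ∈ fx V A → v ∈ fx V B →
    ∃ S ≤ B, a ≤ Nat.card S ∧ S ≤ normalizer (A : Set Y) ∧ ∀ s ∈ S, ∀ x : V, s • x + x ∈ Ee V A
  /-- (TR), #19134 -/
  line : ∀ B ∈ U, ∀ x ∈ Ee V B, x ∉ fx V B → ∃ A₁ : Subgroup Y, Line V B x A₁

/-- members meet the other points trivially: this is (+) -/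
def Disj (U : Set (Subgroup Y)) (M : Subgroup Y) : Prop :=
  ∀ B ∈ U, B ≤ M → ∀ y : Y, B ⊓ MulAut.conj y • M ≠ ⊥ → MulAut.conj y • M = M

/-- SOC (5) (helper301, helper183 #22088): for `0 ≠ w ∈ C_V(B)` the group `B ∩ O₂(C_Y(w))` contains a line of `B`:
`x = [v, s]` modulo `C_V(B)` for every `v ∉ E_B` (needed for `a = 4` only: `A₉`, spin module). -/
def Soc5 (V : Type u) [AddCommGroup V] [DistribMulAction Y V] (U : Set (Subgroup Y)) : Prop :=
  ∀ B ∈ U, ∀ w : V, w ≠ 0 → w ∈ fx V B → ∃ x : V, x ∉ fx V B ∧ ∀ v : V, v ∉ Ee V B →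
    ∃ s ∈ B, s ∈ ZN.o2 (MulAction.stabilizer Y w) ∧ s • v + v + x ∈ fx V B

/-- **The module theorem of CARD N1-ONE** (target of TH/*). -/
def ModStmt : Prop :=
  ∀ (Y V : Type u) [Group Y] [Finite Y] [AddCommGroup V] [Finite V] [DistribMulAction Y V] (U : Set (Subgroup Y))
    (T : Sylow 2 Y) (M : Subgroup Y) (a : ℕ), World V U T M a → 4 ≤ a →
      (∀ W : AddSubgroup V, (∀ y : Y, ∀ w ∈ W, y • w ∈ W) → W = ⊥ ∨ W = ⊤) →
      (∀ L L' : Subgroup Y, Cfsg.IsComponent L → Cfsg.IsComponent L' → L = L') → Soc5 V U → Disj U M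

end Cfsg.Agent.Omega.NO1.TH

end

section


/-!
# N1: LEMMA E and (UPE) (bb OMEGA 20493, helper367; 18221 (E1), helper174)

`LEMMA E` : `C` normalises `E_B` and `F_C ≤ E_B` imply `E_B = E_C`.  `Cor3 B C` : the pairs of COR 3.
`upe_of` : if there is no pair of COR 3 in a 2-group then all members of a 2-group have the same `E`.
-/

set_option autoImplicit false
set_option linter.unusedSectionVars false

namespace Cfsg.Agent.Omega.NO1.AB

open Subgroup
open scoped Pointwise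

universe u

variable {Y : Type u} [Group Y] {V : Type u} [AddCommGroup V] [DistribMulAction Y V]

/-- `X` normalises `W` -/
def Nm (X : Subgroup Y) (W : AddSubgroup V) : Prop := ∀ x ∈ X, ∀ w ∈ W, x • w ∈ W

theorem Nm.mono {X Z : Subgroup Y} {W : AddSubgroup V} (h : Nm Z W) (hXZ : X ≤ Z) : Nm X W :=
  fun x hx => h x (hXZ hx)

/-- the stabiliser of a subgroup of `V` -/
def stb (W : AddSubgroup V) : Subgroup Y where
  carrier := {y | ∀ w, y • w ∈ W ↔ w ∈ W}
  one_mem' := fun w => by rw [one_smul]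
  mul_mem' := fun {a b} ha hb w => by rw [mul_smul, ha, hb]
  inv_mem' := fun {a} ha w => by rw [← ha (a⁻¹ • w), smul_inv_smul]

theorem mem_stb {W : AddSubgroup V} {y : Y} : y ∈ (stb W : Subgroup Y) ↔ ∀ w, y • w ∈ W ↔ w ∈ W := Iff.rfl

theorem nm_iff {X : Subgroup Y} {W : AddSubgroup V} : Nm X W ↔ X ≤ stb W := by
  constructor
  · intro h x hx w
    refine ⟨fun hw => ?_, h x hx w⟩
    have := h x⁻¹ (inv_mem hx) _ hw
    rwa [inv_smul_smul] at this
  · intro h x hx w hw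
    exact (h hx w).2 hw

theorem nm_stb (W : AddSubgroup V) : Nm (stb W : Subgroup Y) W := nm_iff.2 le_rfl

theorem Nm.sup {X Z : Subgroup Y} {W : AddSubgroup V} (h1 : Nm X W) (h2 : Nm Z W) : Nm (X ⊔ Z) W :=
  nm_iff.2 (sup_le (nm_iff.1 h1) (nm_iff.1 h2))

theorem mem_stb_of_eq {W : AddSubgroup V} {y : Y} (h : y • W = W) : y ∈ (stb W : Subgroup Y) := by
  intro w
  constructor
  · intro hw
    rw [← h, AddSubgroup.mem_pointwise_smul_iff_inv_smul_mem, inv_smul_smul] at hw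
    exact hw
  · intro hw
    rw [← h]
    exact AddSubgroup.smul_mem_pointwise_smul _ _ _ hw

theorem stb_eq {W : AddSubgroup V} {y : Y} (h : y ∈ (stb W : Subgroup Y)) : y • W = W := by
  ext w
  rw [AddSubgroup.mem_pointwise_smul_iff_inv_smul_mem]
  have := h (y⁻¹ • w)
  rw [smul_inv_smul] at this
  exact this.symm

theorem Mem.nm {A : Subgroup Y} {E F : AddSubgroup V} (h : Mem A E F) : Nm A E := by
  intro a ha e he
  have h1 := E.sub_mem (h.VB a ha e) he
  rwa [add_sub_cancel_right] at h1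

theorem Mem.mem_of_fix (h2 : ∀ v : V, v + v = 0) {A : Subgroup Y} {E F : AddSubgroup V} (h : Mem A E F) {b : Y}
    (hb : b ∈ A) (h1 : b ≠ 1) {v : V} (hv : b • v = v) : v ∈ E := by
  by_contra hvE
  refine h1 (h.inj v hvE b hb ?_)
  rw [hv, h2]
  exact F.zero_mem

namespace Cls

variable {U : Set (Subgroup Y)} (hc : Cls V U)
include hc

theorem card_Ee [Finite V] {B C : Subgroup Y} (hB : B ∈ U) (hC : C ∈ U) :
    Nat.card (Ee V B) = Nat.card (Ee V C) := by
  obtain ⟨y, rfl⟩ := hc.eq B hB C hC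
  rw [Ee_conj]
  exact (card_smul_as y _).symm

theorem card_fx [Finite V] {B C : Subgroup Y} (hB : B ∈ U) (hC : C ∈ U) :
    Nat.card (fx V B) = Nat.card (fx V C) := by
  obtain ⟨y, rfl⟩ := hc.eq B hB C hC
  rw [fx_conj]
  exact (card_smul_as y _).symm

theorem Ee_eq_of_le [Finite V] {B C : Subgroup Y} (hB : B ∈ U) (hC : C ∈ U) (h : Ee V B ≤ Ee V C) :
    Ee V B = Ee V C := by
  apply SetLike.coe_injective
  apply Set.eq_of_subset_of_ncard_le h
  · rw [← Nat.card_coe_set_eq, ← Nat.card_coe_set_eq]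
    exact (hc.card_Ee hC hB).le

/-- **LEMMA E.** -/
theorem lemE [Finite V] {B C : Subgroup Y} (hB : B ∈ U) (hC : C ∈ U) (hN : Nm C (Ee V B))
    (hF : fx V C ≤ Ee V B) : Ee V B = Ee V C := by
  by_cases h1 : Ee V B ≤ Ee V C
  · exact hc.Ee_eq_of_le hB hC h1
  · obtain ⟨w, hw, hwC⟩ := SetLike.not_le_iff_exists.1 h1
    symm
    apply hc.Ee_eq_of_le hC hB
    intro e he
    obtain ⟨b, hb, hbe⟩ := (hc.mem C hC).surj w hwC e he
    have h2 := hF hbe
    have h3 : b • w + w ∈ Ee V B := (Ee V B).add_mem (hN b hb w hw) hw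
    have h4 := (Ee V B).sub_mem h2 h3
    rwa [add_sub_cancel_left] at h4

/-- **COR 1.** -/
theorem cor1 [Finite V] {B C : Subgroup Y} (hB : B ∈ U) (hC : C ∈ U) (hN : Nm C (Ee V B)) {b : Y}
    (hbB : b ∈ B) (hbC : b ∈ C) (hb : b ≠ 1) : Ee V B = Ee V C :=
  hc.lemE hB hC hN fun _ hv => (hc.mem B hB).mem_of_fix hc.two hbB hb (hv b hbC)

end Cls

/-- The pairs of COR 3. -/
structure Cor3 (V : Type u) [AddCommGroup V] [DistribMulAction Y V] (B C : Subgroup Y) : Prop where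
  nB : Nm B (Ee V C)
  nC : Nm C (Ee V B)
  notB : ¬ fx V B ≤ Ee V C
  notC : ¬ fx V C ≤ Ee V B

theorem lt_inf_norm [Finite Y] {R S : Subgroup Y} (hS : IsPGroup 2 S) (hRS : R < S) :
    ∃ s ∈ S, s ∈ normalizer (R : Set Y) ∧ s ∉ R := by
  have : Fact (Nat.Prime 2) := ⟨Nat.prime_two⟩
  have h1 := Cfsg.Agent.PLocal.ConjFunctor.lt_inf_normalizer hS hRS
  obtain ⟨x, hx, hxR⟩ := SetLike.exists_of_lt h1
  exact ⟨x, hx.1, hx.2, hxR⟩

namespace Cls

variable {U : Set (Subgroup Y)} (hc : Cls V U)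
include hc

/-- two members, each normalising the `E` of the other: `E` equal or a pair of COR 3 -/
theorem eq_or_cor3 [Finite V] {B C : Subgroup Y} (hB : B ∈ U) (hC : C ∈ U) (h1 : Nm C (Ee V B))
    (h2 : Nm B (Ee V C)) : Ee V B = Ee V C ∨ Cor3 V B C := by
  by_cases h3 : fx V C ≤ Ee V B
  · exact Or.inl (hc.lemE hB hC h1 h3)
  by_cases h4 : fx V B ≤ Ee V C
  · exact Or.inl (hc.lemE hC hB h2 h4).symm
  exact Or.inr ⟨h2, h1, h4, h3⟩

/-- the general form of the normaliser argument: if `E_{B^t} = E_B` for all `t ∈ N_S(N_S(E_B))` then `S`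
normalises `E_B` -/
theorem nm_of_step [Finite Y] {S B : Subgroup Y} (hS : IsPGroup 2 S)
    (h : ∀ t ∈ S, t ∈ normalizer ((S ⊓ stb (Ee V B) : Subgroup Y) : Set Y) →
      Ee V (MulAut.conj t • B) = Ee V B) : Nm S (Ee V B) := by
  rw [nm_iff]
  by_contra hne
  have h1 : S ⊓ stb (Ee V B) < S := by
    refine lt_of_le_of_ne inf_le_left fun h1 => hne ?_
    rw [← h1]
    exact inf_le_right
  obtain ⟨t, htS, htN, htR⟩ := lt_inf_norm hS h1
  apply htR
  refine ⟨htS, mem_stb_of_eq ?_⟩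
  rw [← Ee_conj]
  exact h t htS htN

theorem conj_le_of_normalizer {B R : Subgroup Y} {t : Y} (hBR : B ≤ R) (ht : t ∈ normalizer (R : Set Y)) :
    MulAut.conj t • B ≤ R := by
  intro y hy
  rw [mem_conj] at hy
  rw [mem_normalizer_iff''.1 ht]
  exact hBR hy

/-- **COR 2.** -/
theorem cor2 [Finite Y] [Finite V] {S B : Subgroup Y} (hB : B ∈ U) (hS : IsPGroup 2 S) (hBS : B ≤ S) {b : Y}
    (hbB : b ∈ B) (hb : b ≠ 1) (hbZ : ∀ s ∈ S, s * b = b * s) : Nm S (Ee V B) := by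
  apply hc.nm_of_step hS
  intro t htS htN
  have hBR : B ≤ S ⊓ stb (Ee V B) := le_inf hBS (nm_iff.1 (hc.mem B hB).nm)
  have h1 : MulAut.conj t • B ≤ S ⊓ stb (Ee V B) := hc.conj_le_of_normalizer hBR htN
  have h2 : b ∈ MulAut.conj t • B := by
    rw [mem_conj]
    have : t⁻¹ * b * t = b := by rw [mul_assoc, ← hbZ t htS]; group
    rwa [this]
  exact (hc.cor1 hB (hc.conj B hB t) (nm_iff.2 (h1.trans inf_le_right)) hbB h2 hb).symm

/-- **COR 3**: if a 2-group contains no pair of COR 3 then it normalises the `E` of its members. -/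
theorem nm_of_no_cor3 [Finite Y] [Finite V] {S : Subgroup Y} (hS : IsPGroup 2 S)
    (hno : ∀ B ∈ U, ∀ C ∈ U, B ≤ S → C ≤ S → ¬ Cor3 V B C) {B : Subgroup Y} (hB : B ∈ U) (hBS : B ≤ S) :
    Nm S (Ee V B) := by
  apply hc.nm_of_step hS
  intro t htS htN
  have hBR : B ≤ S ⊓ stb (Ee V B) := le_inf hBS (nm_iff.1 (hc.mem B hB).nm)
  have h1 : MulAut.conj t • B ≤ S ⊓ stb (Ee V B) := hc.conj_le_of_normalizer hBR htN
  have hB' := hc.conj B hB t
  have h2 : Nm B (Ee V (MulAut.conj t • B)) := by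
    rw [Ee_conj]
    intro b hb v hv
    rw [AddSubgroup.mem_pointwise_smul_iff_inv_smul_mem] at hv ⊢
    have h3 : t⁻¹ * b * t ∈ S ⊓ stb (Ee V B) := by
      have h4 := (mem_normalizer_iff''.1 htN b).1 (hBR hb)
      exact h4
    have h5 := (h3.2 (t⁻¹ • v)).2 hv
    rw [← mul_smul] at h5 ⊢
    have e : t⁻¹ * b * t * t⁻¹ = t⁻¹ * b := by group
    rwa [e] at h5
  rcases hc.eq_or_cor3 hB hB' (nm_iff.2 (h1.trans inf_le_right)) h2 with h3 | h3
  · exact h3.symm
  · exact absurd h3 (hno B hB _ hB' hBS (h1.trans inf_le_left))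

/-- **(UPE)** if there is no pair of COR 3. -/
theorem upe_of_no_cor3 [Finite Y] [Finite V] {S : Subgroup Y} (hS : IsPGroup 2 S)
    (hno : ∀ B ∈ U, ∀ C ∈ U, B ≤ S → C ≤ S → ¬ Cor3 V B C) {B C : Subgroup Y} (hB : B ∈ U) (hBS : B ≤ S)
    (hC : C ∈ U) (hCS : C ≤ S) : Ee V B = Ee V C := by
  rcases hc.eq_or_cor3 hB hC ((hc.nm_of_no_cor3 hS hno hB hBS).mono hCS)
    ((hc.nm_of_no_cor3 hS hno hC hCS).mono hBS) with h | h
  · exact h
  · exact absurd h (hno B hB C hC hBS hCS)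

end Cls

end Cfsg.Agent.Omega.NO1.AB

end

section


/-!
# (PF) for a member (bb OMEGA 18835, helper970)

`Mem A E F` : `|V/E|² ≤ |A|` (`A ≠ 1`); in case of equality `[E, s] = [E, A]` for every `s ∈ A#`.
-/

set_option autoImplicit false
set_option linter.unusedSectionVars false
set_option linter.style.haveILetI false

namespace Cfsg.Agent.Omega.NO1.B0

open Subgroup Cfsg.Agent.Omega.NO1.AB
open Cfsg.Agent.Omega.NO1.HE (dl dl_apply dl_one dl_eq_zero dl_comm dl_mul dl_self smul_eq add_eq_zero')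
open scoped Pointwise

universe u

variable {Y : Type u} [Group Y] {V : Type u} [AddCommGroup V] [DistribMulAction Y V]

section

variable {B : Subgroup Y} {E F : AddSubgroup V} (h : Mem B E F)
include h

theorem dlE {b : Y} (hb : b ∈ B) (v : V) : dl b v ∈ E := h.VB b hb v

theorem dlF {b : Y} (hb : b ∈ B) {e : V} (he : e ∈ E) : dl b e ∈ F := h.EB b hb e he

theorem dl0 (h2 : ∀ v : V, v + v = 0) {b : Y} (hb : b ∈ B) {f : V} (hf : f ∈ F) :
    dl b f = 0 := (dl_eq_zero h2).2 (h.FB b hb f hf)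

/-- `[v, s, t]` -/
noncomputable def Lam (h2 : ∀ v : V, v + v = 0) :
    V →+ HE.AB B h.comm →+ HE.AB B h.comm →+ V :=
  AddMonoidHom.mk' (fun v =>
    AddMonoidHom.mk' (fun s =>
      AddMonoidHom.mk' (fun t => dl t.v (dl s.v v)) (by
        intro t t'
        rw [HE.AB.v_add, dl_mul h2, dl0 h h2 t.v_mem (dlF h t'.v_mem (dlE h s.v_mem v)), add_zero]))
      (by
        intro s s'
        ext t
        change dl t.v (dl (s + s').v v) = dl t.v (dl s.v v) + dl t.v (dl s'.v v)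
        rw [HE.AB.v_add, dl_mul h2, map_add, map_add, dl0 h h2 t.v_mem (dlF h s.v_mem (dlE h s'.v_mem v)),
          add_zero]))
    (by
      intro v w
      ext s t
      change dl t.v (dl s.v (v + w)) = dl t.v (dl s.v v) + dl t.v (dl s.v w)
      rw [map_add, map_add])

theorem Lam_apply (h2 : ∀ v : V, v + v = 0) (v : V) (s t : HE.AB B h.comm) :
    Lam h h2 v s t = dl t.v (dl s.v v) := rfl

theorem Lam_symm (h2 : ∀ v : V, v + v = 0) (v : V) (s t : HE.AB B h.comm) :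
    Lam h h2 v s t = Lam h h2 v t s :=
  dl_comm (h.comm _ t.v_mem _ s.v_mem) v

theorem Lam_self (h2 : ∀ v : V, v + v = 0) (v : V) (s : HE.AB B h.comm) :
    Lam h h2 v s s = 0 :=
  dl_self h2 (h.sq _ s.v_mem) v

theorem Lam_E (h2 : ∀ v : V, v + v = 0) {e : V} (he : e ∈ E) (s t : HE.AB B h.comm) :
    Lam h h2 e s t = 0 :=
  dl0 h h2 t.v_mem (dlF h s.v_mem he)

theorem rad_iff (h2 : ∀ v : V, v + v = 0) (φ : V →+ ZMod 2) {w : V} (hw : w ∉ E)
    (s : HE.AB B h.comm) : (∀ t, φ (Lam h h2 w s t) = 0) ↔ ∀ e ∈ E, φ (dl s.v e) = 0 := by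
  constructor
  · intro h1 e he
    obtain ⟨t, ht, hf⟩ := h.surj w hw e he
    have h3 := h1 (HE.AB.mk t ht)
    rw [Lam_symm, Lam_apply, HE.AB.v_mk] at h3
    have h4 : dl s.v (dl t w) = dl s.v e := by
      rw [← add_eq_zero' h2, ← map_add]
      exact dl0 h h2 s.v_mem hf
    rwa [h4] at h3
  · intro h1 t
    rw [Lam_symm, Lam_apply]
    exact h1 _ (dlE h t.v_mem w)

/-- the radical of `φ` -/
def Rad (h2 : ∀ v : V, v + v = 0) (φ : V →+ ZMod 2) (w : V) :
    AddSubgroup (HE.AB B h.comm) where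
  carrier := {s | ∀ t, φ (Lam h h2 w s t) = 0}
  zero_mem' := fun t => by rw [map_zero, AddMonoidHom.zero_apply, map_zero]
  add_mem' := fun {s s'} hs hs' t => by
    rw [map_add, AddMonoidHom.add_apply, map_add, hs t, hs' t, add_zero]
  neg_mem' := fun {s} hs t => by
    rw [map_neg, AddMonoidHom.neg_apply, map_neg, hs t, neg_zero]

/-- **(PF)** -/
theorem pf [Finite Y] [Finite V] (h2 : ∀ v : V, v + v = 0) (φ : V →+ ZMod 2)
    (h0 : ¬ ∀ b ∈ B, ∀ e ∈ E, φ (dl b e) = 0) {w : V} (hw : w ∉ E) : E.index ^ 2 ≤ (Rad h h2 φ w).index := by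
  let γ : V →+ HE.AB B h.comm →+ HE.AB B h.comm →+ ZMod 2 :=
    AddMonoidHom.mk' (fun v => AddMonoidHom.mk' (fun s => φ.comp (Lam h h2 v s)) (by
      intro s s'
      ext t
      change φ (Lam h h2 v (s + s') t) = φ (Lam h h2 v s t) + φ (Lam h h2 v s' t)
      rw [map_add, AddMonoidHom.add_apply, map_add])) (by
      intro v w
      ext s t
      change φ (Lam h h2 (v + w) s t) = φ (Lam h h2 v s t) + φ (Lam h h2 w s t)
      rw [map_add, AddMonoidHom.add_apply, AddMonoidHom.add_apply, map_add])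
  let β : (V ⧸ E) →+ HE.AB B h.comm →+ HE.AB B h.comm →+ ZMod 2 := QuotientAddGroup.lift E γ (by
    intro e he
    ext s t
    change φ (Lam h h2 e s t) = 0
    rw [Lam_E h h2 he, map_zero])
  have hβ : ∀ (v : V) (s t : HE.AB B h.comm), β (v : V ⧸ E) s t = φ (Lam h h2 v s t) := fun _ _ _ => rfl
  have h3 : ∀ q : V ⧸ E, q + q = 0 := by
    intro q
    induction q using QuotientAddGroup.induction_on with
    | _ v => rw [← QuotientAddGroup.mk_add, h2, QuotientAddGroup.mk_zero]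
  have h4 := NearFF.Pfaff.card_sq_le_index h3 (HE.AB.two h.sq) β (by
    intro q s
    induction q using QuotientAddGroup.induction_on with
    | _ v => rw [hβ, Lam_self h h2, map_zero]) (Rad h h2 φ w) (by
    intro q hq s
    induction q using QuotientAddGroup.induction_on with
    | _ v =>
      have hv : v ∉ E := fun h5 => hq ((QuotientAddGroup.eq_zero_iff v).2 h5)
      change _ ↔ ∀ t, φ (Lam h h2 w s t) = 0
      rw [rad_iff h h2 φ hw, ← rad_iff h h2 φ hv]
      constructor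
      · intro h5 t
        rw [Lam_symm]
        exact h5 t
      · intro h5 t
        rw [hβ, Lam_symm]
        exact h5 t) (by
    intro hT
    apply h0
    intro b hb e he
    have h5 : (HE.AB.mk b hb : HE.AB B h.comm) ∈ Rad h h2 φ w := by rw [hT]; trivial
    have h6 := (rad_iff h h2 φ hw _).1 h5
    exact h6 e he)
  exact h4

theorem exists_functional [Finite V] (h2 : ∀ v : V, v + v = 0) (W : AddSubgroup V) {v : V} (hv : v ∉ W) :
    ∃ φ : V →+ ZMod 2, (∀ w ∈ W, φ w = 0) ∧ φ v ≠ 0 := by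
  letI : Module (ZMod 2) V := AddCommGroup.zmodModule (n := 2) fun v => by rw [two_nsmul]; exact h2 v
  let W' : Submodule (ZMod 2) V := AddSubgroup.toZModSubmodule 2 W
  have hv' : v ∉ W' := hv
  obtain ⟨f, hf1, hf2⟩ := Submodule.exists_le_ker_of_notMem hv'
  exact ⟨f.toAddMonoidHom, fun w hw => hf2 hw, hf1⟩

/-- **(PF)** `|V/E|² ≤ |A|` -/
theorem pf_le [Finite Y] [Finite V] (h2 : ∀ v : V, v + v = 0) (hB : B ≠ ⊥) : E.index ^ 2 ≤ Nat.card B := by
  obtain ⟨w, hw⟩ := h.ne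
  -- `[E, B] ≠ 0`
  have h1 : ∃ b ∈ B, ∃ e ∈ E, dl b e ≠ 0 := by
    by_contra hc
    push Not at hc
    apply hB
    rw [eq_bot_iff]
    intro b hb
    have h3 : dl b w ∈ F := h.CB _ fun c hc' => (dl_eq_zero h2).1 (hc c hc' _ (dlE h hb w))
    rw [h.inj w hw b hb h3]
    exact one_mem _
  obtain ⟨b, hb, e, he, hne⟩ := h1
  obtain ⟨φ, -, hφ⟩ := exists_functional h h2 ⊥ (v := dl b e) (by rwa [AddSubgroup.mem_bot])
  have h3 := pf h h2 φ (fun hc => hφ (hc b hb e he)) hw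
  exact h3.trans (Nat.le_of_dvd Nat.card_pos (AddSubgroup.index_dvd_card _))

/-- equality in (PF): `[E, s] = [E, A]` -/
theorem pf_eq [Finite Y] [Finite V] (h2 : ∀ v : V, v + v = 0) (hB : Nat.card B = E.index ^ 2) {s : Y}
    (hs : s ∈ B) (hs1 : s ≠ 1) {b : Y} (hb : b ∈ B) {e : V} (he : e ∈ E) :
    ∃ e' ∈ E, b • e + e = s • e' + e' := by
  obtain ⟨w, hw⟩ := h.ne
  by_contra hc
  push Not at hc
  have h1 : dl b e ∉ E.map (dl s) := by
    rintro ⟨e', he', h3⟩
    exact hc e' he' h3.symm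
  obtain ⟨φ, hφ1, hφ2⟩ := exists_functional h h2 _ h1
  have h3 := pf h h2 φ (fun hc' => hφ2 (hc' b hb e he)) hw
  rw [← hB] at h3
  have h4 : (Rad h h2 φ w) = ⊥ := by
    have h5 := AddSubgroup.card_mul_index (Rad h h2 φ w)
    rw [HE.AB.card] at h5
    have h6 : Nat.card (Rad h h2 φ w) ≤ 1 := by
      by_contra h7
      push Not at h7
      have h8 : 2 * (Rad h h2 φ w).index ≤ Nat.card (Rad h h2 φ w) * (Rad h h2 φ w).index :=
        Nat.mul_le_mul_right _ h7
      have h9 : 0 < Nat.card B := Nat.card_pos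
      omega
    have h7 : 0 < Nat.card (Rad h h2 φ w) := Nat.card_pos
    exact AddSubgroup.eq_bot_of_card_le _ h6
  have h5 : (HE.AB.mk s hs : HE.AB B h.comm) ∈ Rad h h2 φ w :=
    (rad_iff h h2 φ hw _).2 fun e he => hφ1 _ ⟨e, he, rfl⟩
  rw [h4, AddSubgroup.mem_bot] at h5
  exact hs1 (congrArg HE.AB.v h5)

end

end Cfsg.Agent.Omega.NO1.B0

end

section


/-!
# N1, THE END (bb OMEGA 20698, 21741, helper70, helper456): the field

One side of the amalgam: `J` centralises `Q ≤ B ≤ J`, is irreducible on `N`, `[v, q] ∈ N`, `[V, q] = N`, `C_V(q) = C_V(Q)`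
for `1 ≠ q ∈ Q`, `I = C_N(B)`, `|Q| = |I| = c`.  `Sc J N f` : `f` is an additive map on `N` commuting with `J`.
Every such `f` is `m_b : [v, b₀] ↦ [v, b]`, `b ∈ Q`; they form a field.
-/

set_option autoImplicit false
set_option linter.unusedSectionVars false

namespace Cfsg.Agent.Omega.NO1.TH

open Subgroup Cfsg.Agent.Omega.NO1.AB
open scoped Pointwise

universe u

variable {Y : Type u} [Group Y] {V : Type u} [AddCommGroup V] [DistribMulAction Y V]

/-- one side (module level) -/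
structure FS (J B Q : Subgroup Y) (N I : AddSubgroup V) (c : ℕ) : Prop where
  two : ∀ v : V, v + v = 0
  NJ : ∀ j ∈ J, ∀ n ∈ N, j • n ∈ N
  irr : ∀ N₀ : AddSubgroup V, N₀ ≤ N → (∀ j ∈ J, ∀ n ∈ N₀, j • n ∈ N₀) → N₀ = ⊥ ∨ N₀ = N
  JQ : ∀ j ∈ J, ∀ q ∈ Q, j * q = q * j
  BJ : B ≤ J
  QB : Q ≤ B
  card_Q : Nat.card Q = c
  card_I : Nat.card I = c
  mem_I : ∀ v : V, v ∈ I ↔ v ∈ N ∧ ∀ b ∈ B, b • v = v
  QN : ∀ q ∈ Q, ∀ n ∈ N, q • n = n
  VQ : ∀ q ∈ Q, ∀ v : V, q • v + v ∈ N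
  onto : ∀ q ∈ Q, q ≠ 1 → ∀ n ∈ N, ∃ v : V, q • v + v = n
  fix : ∀ q ∈ Q, q ≠ 1 → ∀ v : V, q • v = v → ∀ q₂ ∈ Q, q₂ • v = v
  c_two : 2 ≤ c

/-- a scalar of `N` over `J` -/
structure Sc (J : Subgroup Y) (N : AddSubgroup V) (f : V → V) : Prop where
  mem : ∀ n ∈ N, f n ∈ N
  add : ∀ n ∈ N, ∀ n₂ ∈ N, f (n + n₂) = f n + f n₂
  comm : ∀ j ∈ J, ∀ n ∈ N, f (j • n) = j • f n

namespace Sc

variable {J : Subgroup Y} {N : AddSubgroup V} {f g : V → V}

theorem zero' (hf : Sc J N f) : f 0 = 0 := by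
  have h := hf.add 0 (zero_mem N) 0 (zero_mem N)
  rw [add_zero] at h
  have h2 : f 0 + 0 = f 0 + f 0 := by rw [add_zero]; exact h
  exact (add_left_cancel h2).symm

theorem comp (hf : Sc J N f) (hg : Sc J N g) : Sc J N (fun v => f (g v)) where
  mem := fun n hn => hf.mem _ (hg.mem n hn)
  add := fun n hn n₂ hn₂ => by
    rw [hg.add n hn n₂ hn₂, hf.add _ (hg.mem n hn) _ (hg.mem n₂ hn₂)]
  comm := fun j hj n hn => by
    rw [hg.comm j hj n hn, hf.comm j hj _ (hg.mem n hn)]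

theorem addd (hf : Sc J N f) (hg : Sc J N g) : Sc J N (fun v => f v + g v) where
  mem := fun n hn => add_mem (hf.mem n hn) (hg.mem n hn)
  add := fun n hn n₂ hn₂ => by
    rw [hg.add n hn n₂ hn₂, hf.add n hn n₂ hn₂]
    abel
  comm := fun j hj n hn => by
    rw [hg.comm j hj n hn, hf.comm j hj n hn, smul_add]

theorem id : Sc J N (fun v => v) where
  mem := fun _ hn => hn
  add := fun _ _ _ _ => rfl
  comm := fun _ _ _ _ => rfl

theorem zero : Sc J N (fun _ => (0 : V)) where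
  mem := fun _ _ => zero_mem N
  add := fun _ _ _ _ => (add_zero 0).symm
  comm := fun _ _ _ _ => (smul_zero _).symm

/-- the restriction to `N` -/
noncomputable def toEnd (hf : Sc J N f) : N →+ N where
  toFun n := ⟨f n, hf.mem n n.2⟩
  map_zero' := Subtype.ext hf.zero'
  map_add' a b := Subtype.ext (hf.add a a.2 b b.2)

end Sc

/-- the ring of scalars -/
def ScRing (J : Subgroup Y) (N : AddSubgroup V) : Subring (AddMonoid.End N) where
  carrier := {φ | ∀ j ∈ J, ∀ n n₂ : N, (n₂ : V) = j • (n : V) → (φ n₂ : V) = j • (φ n : V)}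
  mul_mem' := fun {a b} ha hb j hj n n₂ h => by
    exact ha j hj (b n) (b n₂) (hb j hj n n₂ h)
  one_mem' := fun j hj n n₂ h => h
  add_mem' := fun {a b} ha hb j hj n n₂ h => by
    change ((a n₂ + b n₂ : N) : V) = j • ((a n + b n : N) : V)
    push_cast
    rw [smul_add, ha j hj n n₂ h, hb j hj n n₂ h]
  zero_mem' := fun j hj n n₂ h => by
    change ((0 : N) : V) = j • ((0 : N) : V)
    push_cast
    rw [smul_zero]
  neg_mem' := fun {a} ha j hj n n₂ h => by
    change ((-(a n₂) : N) : V) = j • ((-(a n) : N) : V)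
    push_cast
    rw [smul_neg, ha j hj n n₂ h]

namespace FS

variable {J B Q : Subgroup Y} {N I : AddSubgroup V} {c : ℕ} (h : FS J B Q N I c)
include h

theorem IN : I ≤ N := fun v hv => ((h.mem_I v).1 hv).1

/-- injectivity of scalars -/
theorem inj {f : V → V} (hf : Sc J N f) {n : V} (hn : n ∈ N) (hn0 : n ≠ 0) (hfn : f n = 0) :
    ∀ x ∈ N, f x = 0 := by
  let K : AddSubgroup V :=
    { carrier := {x | x ∈ N ∧ f x = 0}
      zero_mem' := ⟨zero_mem N, hf.zero'⟩
      add_mem' := fun {a b} ha hb => ⟨add_mem ha.1 hb.1, by rw [hf.add a ha.1 b hb.1, ha.2, hb.2, add_zero]⟩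
      neg_mem' := fun {a} ha => by
        have e : -a = a := by
          have := h.two a
          exact neg_eq_of_add_eq_zero_left this
        rw [e]; exact ha }
  have hK : K = ⊥ ∨ K = N := h.irr K (fun x hx => hx.1) (fun j hj x hx =>
    ⟨h.NJ j hj x hx.1, by rw [hf.comm j hj x hx.1, hx.2, smul_zero]⟩)
  rcases hK with hK | hK
  · exfalso
    apply hn0
    have : n ∈ K := ⟨hn, hfn⟩
    rw [hK, AddSubgroup.mem_bot] at this
    exact this
  · intro x hx
    have : x ∈ K := by rw [hK]; exact hx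
    exact this.2

/-- two scalars equal at one non-zero vector -/
theorem ext {f g : V → V} (hf : Sc J N f) (hg : Sc J N g) {n : V} (hn : n ∈ N) (hn0 : n ≠ 0)
    (hfg : f n = g n) : ∀ x ∈ N, f x = g x := by
  intro x hx
  have h1 := h.inj (hf.addd hg) hn hn0 (by rw [hfg]; exact h.two _) x hx
  have h2 : f x + g x = g x + g x := by rw [h1, h.two]
  exact add_right_cancel h2

/-- `m_b` -/
theorem exists_mb {b₀ b : Y} (hb₀ : b₀ ∈ Q) (hb0 : b₀ ≠ 1) (hb : b ∈ Q) :
    ∃ f, Sc J N f ∧ ∀ v : V, f (b₀ • v + v) = b • v + v := by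
  classical
  have key : ∀ v v' : V, b₀ • v + v = b₀ • v' + v' → b • v + v = b • v' + v' := by
    intro v v' hv
    have h1 : b₀ • (v + v') = v + v' := by
      rw [smul_add]
      have h2 : b₀ • v = b₀ • v' + v' + v := by
        rw [← hv, add_assoc, h.two, add_zero]
      rw [h2]
      have h3 := h.two (b₀ • v')
      calc b₀ • v' + v' + v + b₀ • v' = (b₀ • v' + b₀ • v') + (v + v') := by abel
        _ = v + v' := by rw [h3, zero_add]
    have h4 := h.fix b₀ hb₀ hb0 _ h1 b hb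
    rw [smul_add] at h4
    have h5 : b • v = v + v' + b • v' := by
      rw [← h4, add_assoc, h.two, add_zero]
    rw [h5]
    have h6 := h.two v
    calc v + v' + b • v' + v = (v + v) + (b • v' + v') := by abel
      _ = _ := by rw [h6, zero_add]
  refine ⟨fun n => if hn : ∃ v : V, b₀ • v + v = n then b • hn.choose + hn.choose else 0, ?_, ?_⟩
  · have hval : ∀ v : V, (if hn : ∃ v' : V, b₀ • v' + v' = b₀ • v + v then b • hn.choose + hn.choose else 0) =
        b • v + v := by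
      intro v
      have hn : ∃ v' : V, b₀ • v' + v' = b₀ • v + v := ⟨v, rfl⟩
      rw [dif_pos hn]
      exact key _ _ hn.choose_spec
    refine ⟨fun n hn => ?_, fun n hn n₂ hn₂ => ?_, fun j hj n hn => ?_⟩
    · obtain ⟨v, rfl⟩ := h.onto b₀ hb₀ hb0 n hn
      change (if hn : ∃ v' : V, b₀ • v' + v' = b₀ • v + v then b • hn.choose + hn.choose else 0) ∈ N
      rw [hval]
      exact h.VQ b hb v
    · obtain ⟨v, rfl⟩ := h.onto b₀ hb₀ hb0 n hn
      obtain ⟨v₂, rfl⟩ := h.onto b₀ hb₀ hb0 n₂ hn₂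
      have e : b₀ • v + v + (b₀ • v₂ + v₂) = b₀ • (v + v₂) + (v + v₂) := by
        rw [smul_add]; abel
      change (if hn : ∃ v' : V, b₀ • v' + v' = b₀ • v + v + (b₀ • v₂ + v₂) then b • hn.choose + hn.choose else 0) =
        (if hn : ∃ v' : V, b₀ • v' + v' = b₀ • v + v then b • hn.choose + hn.choose else 0) +
        (if hn : ∃ v' : V, b₀ • v' + v' = b₀ • v₂ + v₂ then b • hn.choose + hn.choose else 0)
      rw [e, hval, hval, hval, smul_add]; abel
    · obtain ⟨v, rfl⟩ := h.onto b₀ hb₀ hb0 n hn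
      have e : j • (b₀ • v + v) = b₀ • (j • v) + j • v := by
        rw [smul_add, ← mul_smul, ← mul_smul, h.JQ j hj b₀ hb₀]
      change (if hn : ∃ v' : V, b₀ • v' + v' = j • (b₀ • v + v) then b • hn.choose + hn.choose else 0) =
        j • (if hn : ∃ v' : V, b₀ • v' + v' = b₀ • v + v then b • hn.choose + hn.choose else 0)
      rw [e, hval, hval, smul_add, ← mul_smul, ← mul_smul, h.JQ j hj b hb]
  · intro v
    have hn : ∃ v' : V, b₀ • v' + v' = b₀ • v + v := ⟨v, rfl⟩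
    change (if hn : ∃ v' : V, b₀ • v' + v' = b₀ • v + v then b • hn.choose + hn.choose else 0) = _
    rw [dif_pos hn]
    exact key _ _ hn.choose_spec

/-- `[v, b b'] = [v, b] + [v, b']` -/
theorem add_Q {b b' : Y} (hb : b ∈ Q) (hb' : b' ∈ Q) (v : V) :
    (b * b') • v + v = (b • v + v) + (b' • v + v) := by
  have h1 := h.QN b hb _ (h.VQ b' hb' v)
  rw [smul_add, ← mul_smul] at h1
  have h2 : (b * b') • v = b' • v + v + b • v := by
    rw [← h1, add_assoc, h.two, add_zero]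
  rw [h2]; abel

theorem exists_ne : ∃ b₀ ∈ Q, b₀ ≠ 1 := by
  by_contra hcon
  push Not at hcon
  have h1 : Q = ⊥ := by
    rw [eq_bot_iff]
    intro x hx
    rw [Subgroup.mem_bot]
    exact hcon x hx
  have h2 := h.card_Q
  rw [h1, Subgroup.card_bot] at h2
  have := h.c_two
  omega

theorem exists_i0 : ∃ i ∈ I, i ≠ 0 := by
  by_contra hcon
  push Not at hcon
  have h1 : I = ⊥ := by
    rw [eq_bot_iff]
    intro x hx
    rw [AddSubgroup.mem_bot]
    exact hcon x hx
  have h2 := h.card_I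
  rw [h1] at h2
  have h3 : Nat.card (⊥ : AddSubgroup V) = 1 := by simp
  have := h.c_two
  omega

/-- scalars preserve `I` -/
theorem sc_I {f : V → V} (hf : Sc J N f) {i : V} (hi : i ∈ I) : f i ∈ I := by
  rw [h.mem_I] at hi ⊢
  refine ⟨hf.mem _ hi.1, fun b hb => ?_⟩
  rw [← hf.comm b (h.BJ hb) i hi.1, hi.2 b hb]

/-- a scalar which kills a non-zero `[v, b₀]` is zero; `b ≠ 1` : `m_b ≠ 0` -/
theorem mb_ne {b : Y} (hb : b ∈ Q) (hb1 : b ≠ 1) : ∃ v : V, b • v + v ≠ 0 := by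
  obtain ⟨i, hi, hi0⟩ := h.exists_i0
  obtain ⟨v, hv⟩ := h.onto b hb hb1 i (h.IN hi)
  exact ⟨v, by rw [hv]; exact hi0⟩

/-- **transitivity on `I`**: `f i₁ = i₂`, `f = m_b` -/
theorem exists_sc [Finite Y] [Finite V] {b₀ : Y} (hb₀ : b₀ ∈ Q) (hb0 : b₀ ≠ 1) {i₁ i₂ : V} (hi₁ : i₁ ∈ I)
    (h0 : i₁ ≠ 0) (hi₂ : i₂ ∈ I) :
    ∃ f, ∃ b ∈ Q, Sc J N f ∧ (∀ v : V, f (b₀ • v + v) = b • v + v) ∧ f i₁ = i₂ := by
  classical
  choose f hf using fun b : Q => h.exists_mb hb₀ hb0 b.2
  let g : Q → I := fun b => ⟨f b i₁, h.sc_I (hf b).1 hi₁⟩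
  have hg : Function.Injective g := by
    intro b b' hbb
    have h1 : f b i₁ = f b' i₁ := congrArg Subtype.val hbb
    have h2 := h.ext (hf b).1 (hf b').1 (h.IN hi₁) h0 h1
    by_contra hne
    have h3 : (b : Y) * b' ∈ Q := Q.mul_mem b.2 b'.2
    have h4 : ∀ v : V, ((b : Y) * b') • v + v = 0 := by
      intro v
      rw [h.add_Q b.2 b'.2, ← (hf b).2 v, ← (hf b').2 v, h2 _ (h.VQ b₀ hb₀ v), h.two]
    have h5 : (b : Y) * b' = 1 := by
      by_contra h6
      obtain ⟨v, hv⟩ := h.mb_ne h3 h6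
      exact hv (h4 v)
    have h7 : (b' : Y) * b' = 1 := by
      by_contra h6
      obtain ⟨v, hv⟩ := h.mb_ne (Q.mul_mem b'.2 b'.2) h6
      apply hv
      rw [h.add_Q b'.2 b'.2, h.two]
    apply hne
    apply Subtype.ext
    have h8 : (b : Y) * b' = b' * b' := by rw [h5, h7]
    exact mul_right_cancel h8
  have hcard : Nat.card Q = Nat.card I := by rw [h.card_Q, h.card_I]
  have hs : Function.Surjective g := by
    have := Fintype.ofFinite Q
    have := Fintype.ofFinite I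
    rw [Nat.card_eq_fintype_card, Nat.card_eq_fintype_card] at hcard
    exact ((Fintype.bijective_iff_injective_and_card g).2 ⟨hg, hcard⟩).2
  obtain ⟨b, hb⟩ := hs ⟨i₂, hi₂⟩
  exact ⟨f b, b, b.2, (hf b).1, (hf b).2, congrArg Subtype.val hb⟩

/-- every scalar is some `m_b` -/
theorem eq_mb [Finite Y] [Finite V] {f : V → V} (hf : Sc J N f) {b₀ : Y} (hb₀ : b₀ ∈ Q) (hb0 : b₀ ≠ 1) :
    ∃ b ∈ Q, ∀ v : V, f (b₀ • v + v) = b • v + v := by
  obtain ⟨i, hi, hi0⟩ := h.exists_i0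
  obtain ⟨g, b, hb, hg, hgb, hgi⟩ := h.exists_sc hb₀ hb0 hi hi0 (h.sc_I hf hi)
  refine ⟨b, hb, fun v => ?_⟩
  rw [← hgb v]
  exact h.ext hf hg (h.IN hi) hi0 hgi.symm _ (h.VQ b₀ hb₀ v)

/-- `b_f` : `[v, b_f] = f [v, b]` -/
theorem exists_bf [Finite Y] [Finite V] {f : V → V} (hf : Sc J N f) {b : Y} (hb : b ∈ Q) :
    ∃ b' ∈ Q, ∀ v : V, b' • v + v = f (b • v + v) := by
  by_cases hb1 : b = 1
  · refine ⟨1, Q.one_mem, fun v => ?_⟩
    rw [hb1, one_smul, h.two, hf.zero']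
  · obtain ⟨b', hb', h1⟩ := h.eq_mb hf hb hb1
    exact ⟨b', hb', fun v => (h1 v).symm⟩

/-- **the scalars commute** (Wedderburn) -/
theorem sc_comm [Finite Y] [Finite V] {f g : V → V} (hf : Sc J N f) (hg : Sc J N g) :
    ∀ n ∈ N, f (g n) = g (f n) := by
  classical
  obtain ⟨i, hi, hi0⟩ := h.exists_i0
  have hiN := h.IN hi
  -- elements of the ring
  have hin : ∀ {φ : AddMonoid.End N}, φ ∈ ScRing J N → Sc J N (fun v => if hv : v ∈ N then (φ ⟨v, hv⟩ : V) else 0) := by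
    intro φ hφ
    refine ⟨fun n hn => ?_, fun n hn n₂ hn₂ => ?_, fun j hj n hn => ?_⟩
    · rw [dif_pos hn]; exact (φ ⟨n, hn⟩).2
    · rw [dif_pos hn, dif_pos hn₂, dif_pos (add_mem hn hn₂)]
      have : (⟨n + n₂, add_mem hn hn₂⟩ : N) = ⟨n, hn⟩ + ⟨n₂, hn₂⟩ := rfl
      rw [this, map_add]; rfl
    · rw [dif_pos hn, dif_pos (h.NJ j hj n hn)]
      exact hφ j hj ⟨n, hn⟩ ⟨j • n, h.NJ j hj n hn⟩ rfl
  have hz : ∀ {φ : AddMonoid.End N}, φ ∈ ScRing J N → ∀ n : N, n ≠ 0 → φ n = 0 → φ = 0 := by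
    intro φ hφ n hn h0
    have h1 := h.inj (hin hφ) n.2 (fun h2 => hn (Subtype.ext h2)) (by
      rw [dif_pos n.2]
      exact congrArg Subtype.val h0)
    ext x
    have h2 := h1 x x.2
    rw [dif_pos x.2] at h2
    exact h2
  have : Finite (AddMonoid.End N) := Finite.of_injective (fun φ : AddMonoid.End N => (φ : N → N)) DFunLike.coe_injective
  have hnt : Nontrivial (ScRing J N) := by
    refine ⟨⟨0, 1, fun h1 => hi0 ?_⟩⟩
    have h2 : ((0 : ScRing J N) : AddMonoid.End N) ⟨i, hiN⟩ = ((1 : ScRing J N) : AddMonoid.End N) ⟨i, hiN⟩ := by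
      rw [h1]
    exact (congrArg Subtype.val h2).symm
  have hnz : NoZeroDivisors (ScRing J N) := by
    refine ⟨fun {a b} hab => ?_⟩
    by_cases hb : ((b : AddMonoid.End N)) ⟨i, hiN⟩ = 0
    · right
      apply Subtype.ext
      exact hz b.2 ⟨i, hiN⟩ (fun h2 => hi0 (congrArg Subtype.val h2)) hb
    · left
      apply Subtype.ext
      apply hz a.2 _ hb
      have h1 : ((a * b : ScRing J N) : AddMonoid.End N) ⟨i, hiN⟩ = 0 := by rw [hab]; rfl
      exact h1
  have hdom : IsDomain (ScRing J N) := NoZeroDivisors.to_isDomain _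
  have hfld := Finite.isDomain_to_isField (ScRing J N)
  have mk : ∀ {f : V → V} (hf : Sc J N f), (hf.toEnd : AddMonoid.End N) ∈ ScRing J N := by
    intro f hf j hj n n₂ hn
    change f n₂ = j • f n
    rw [hn, hf.comm j hj n n.2]
  have hc := hfld.mul_comm ⟨hf.toEnd, mk hf⟩ ⟨hg.toEnd, mk hg⟩
  intro n hn
  have h1 := congrArg (fun x : ScRing J N => (((x : AddMonoid.End N) ⟨n, hn⟩ : N) : V)) hc
  exact h1

/-- `j ∈ J` which preserves `I` acts on `I` as a scalar -/
theorem smul_I [Finite Y] [Finite V] {j : Y} (hj : j ∈ J) {i₀ : V} (hi₀ : i₀ ∈ I) (h0 : i₀ ≠ 0)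
    (hji : j • i₀ ∈ I) : ∃ f, Sc J N f ∧ ∀ i ∈ I, j • i = f i := by
  obtain ⟨b₀, hb₀, hb0⟩ := h.exists_ne
  obtain ⟨f, b, hb, hf, -, hfi⟩ := h.exists_sc hb₀ hb0 hi₀ h0 hji
  refine ⟨f, hf, fun i hi => ?_⟩
  obtain ⟨g, b', hb', hg, -, hgi⟩ := h.exists_sc hb₀ hb0 hi₀ h0 hi
  rw [← hgi, ← hg.comm j hj _ (h.IN hi₀), ← hfi, h.sc_comm hf hg _ (h.IN hi₀)]

end FS

end Cfsg.Agent.Omega.NO1.TH

end

section


/-!
# N1, BETA, the amalgam `(H, H^t)`: the interface of (L1) (bb OMEGA 21480, helper411)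

`W := WW V H R`, `W' := WW V (conj t • H) R = t • W`, `Q := QQ H R`, `Q' := QQ (conj t • H) R`.
`LFac V U H R P Ψ` : the factors of `W`: `P p / Q` = the root groups (S_n type: the transpositions) of `R / Q`,
`Ψ p` = the part of `W` which is moved by `P p` only, `WJ` = the part of `W` centralised by all members `≤ R`.
`LIn` : the input of (L1) for ONE member `A = U₁ ≤ H` outside `M`. The theorem (TH/LOne.lean): `LIn` is impossible.
-/

set_option autoImplicit false
set_option linter.unusedSectionVars false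

namespace Cfsg.Agent.Omega.NO1.TH

open Subgroup Cfsg.Agent.Omega.NO1.AB
open scoped Pointwise

universe u

variable {Y : Type u} [Group Y] {V : Type u} [AddCommGroup V] [DistribMulAction Y V]

/-- `C_W(J)`, `J` generated by the members `≤ R` -/
def WJ (V : Type u) [AddCommGroup V] [DistribMulAction Y V] (U : Set (Subgroup Y)) (H R : Subgroup Y) :
    AddSubgroup V where
  carrier := {v | v ∈ WW V H R ∧ ∀ B ∈ U, B ≤ R → ∀ b ∈ B, b • v = v}
  add_mem' := fun {v w} hv hw => ⟨add_mem hv.1 hw.1, fun B hB hBR b hb => by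
    rw [smul_add, hv.2 B hB hBR b hb, hw.2 B hB hBR b hb]⟩
  zero_mem' := ⟨zero_mem _, fun B _ _ b _ => smul_zero b⟩
  neg_mem' := fun {v} hv => ⟨neg_mem hv.1, fun B hB hBR b hb => by rw [smul_neg, hv.2 B hB hBR b hb]⟩

/-- the part of `W` centralised by all members `≤ H` -/
def D0 (V : Type u) [AddCommGroup V] [DistribMulAction Y V] (U : Set (Subgroup Y)) (H R : Subgroup Y) :
    AddSubgroup V where
  carrier := {v | v ∈ WW V H R ∧ ∀ B ∈ U, B ≤ H → ∀ b ∈ B, b • v = v}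
  add_mem' := fun {v w} hv hw => ⟨add_mem hv.1 hw.1, fun B hB hBR b hb => by
    rw [smul_add, hv.2 B hB hBR b hb, hw.2 B hB hBR b hb]⟩
  zero_mem' := ⟨zero_mem _, fun B _ _ b _ => smul_zero b⟩
  neg_mem' := fun {v} hv => ⟨neg_mem hv.1, fun B hB hBR b hb => by rw [smul_neg, hv.2 B hB hBR b hb]⟩

/-- `[W, P]` -/
def brk (W : AddSubgroup V) (P : Subgroup Y) : AddSubgroup V :=
  AddSubgroup.closure {v | ∃ w ∈ W, ∃ p ∈ P, v = p • w + w}

/-- The factors of `W` (`P p ≥ Q`: the root groups resp. transpositions of `R / Q`). -/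
structure LFac (V : Type u) [AddCommGroup V] [DistribMulAction Y V] (U : Set (Subgroup Y)) (H R : Subgroup Y)
    {ι : Type} (P : ι → Subgroup Y) (Ψ : ι → AddSubgroup V) : Prop where
  le : ∀ p, P p ≤ R
  fixJ : ∀ p, ∀ r ∈ P p, ∀ x ∈ WJ V U H R, r • x = x
  /-- `C_R(C_W(J)) = J Q` -/
  ofJ : ∀ r ∈ R, (∀ x ∈ WJ V U H R, r • x = x) → r ∈ ⨆ p, P p
  Ψle : ∀ p, Ψ p ≤ WW V H R
  sup : WW V H R ≤ WJ V U H R ⊔ ⨆ p, Ψ p
  orth : ∀ p p', p ≠ p' → ∀ r ∈ P p, ∀ x ∈ Ψ p', r • x = x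
  quad : ∀ p, ∀ r ∈ P p, ∀ x ∈ Ψ p, r • x + x ∈ WJ V U H R
  trans : ∀ p p', ∃ r ∈ R, P p' = MulAut.conj r • P p ∧ Ψ p' = r • Ψ p

/-- The input of (L1) for one member `A = U₁`. -/
structure LIn (V : Type u) [AddCommGroup V] [DistribMulAction Y V] (U : Set (Subgroup Y)) (M H R : Subgroup Y)
    (t : Y) {ι : Type} (P : ι → Subgroup Y) (Ψ : ι → AddSubgroup V) {ι' : Type} (P' : ι' → Subgroup Y)
    (Ψ' : ι' → AddSubgroup V) (A : Subgroup Y) : Prop where
  fac : LFac V U H R P Ψ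
  fac' : LFac V U (MulAut.conj t • H) R P' Ψ'
  mA : A ∈ U
  AH : A ≤ H
  AM : ¬ A ≤ M
  /-- `A` is not trivial on `W` -/
  AQ : ¬ A ≤ QQ H R
  WE : WW V H R ≤ Ee V A
  /-- (a) `S₁ ≤ B₁` -/
  pre : ∀ w, w ∉ Ee V A → ∀ s ∈ A, s • w + w ∈ WW V H R ⊔ fx V A → s ∈ QQ H R
  /-- `A / B₁` is faithful on `W / D₀` -/
  faith : ∀ u ∈ A, (∀ w ∈ WW V H R, u • w + w ∈ D0 V U H R) → u ∈ QQ H R
  /-- `C_V(B₁) = W + F₁` -/
  CB : ∀ v, (∀ b ∈ A, b ∈ QQ H R → b • v = v) → v ∈ WW V H R ⊔ fx V A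
  /-- `C_V(K) = W + W' + F₁` -/
  CK : ∀ v, (∀ k ∈ A, k ∈ QQ H R → k ∈ QQ (MulAut.conj t • H) R → k • v = v) →
    v ∈ WW V H R ⊔ WW V (MulAut.conj t • H) R ⊔ fx V A
  /-- `WW ≤ E₁` -/
  le₁ : ∀ x ∈ H, ∀ w ∈ WW V (MulAut.conj t • H) R, x • w ∈ Ee V A
  /-- `WW' ≤ E₁` -/
  le₂ : ∀ x ∈ MulAut.conj t • H, ∀ w ∈ WW V H R, x • w ∈ Ee V A
  /-- `B₁` induces `R'_Δ` on `W'` -/
  exact : ∃ Δ : Set ι', Δ.Nonempty ∧ (∀ b ∈ A, b ∈ QQ H R → b ∈ ⨆ p ∈ Δ, P' p) ∧
    ∀ p ∈ Δ, ∀ r ∈ P' p, ∃ b ∈ A, b ∈ QQ H R ∧ b⁻¹ * r ∈ QQ (MulAut.conj t • H) R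
  /-- a factor which is moved by `A` (`I_p := [Ψ p, P p]`) -/
  mov : ∃ p, ∀ x ∈ brk (Ψ p) (P p), x ∈ fx V A → x ∈ D0 V U H R

end Cfsg.Agent.Omega.NO1.TH

end

end
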